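import Mathlib

/-!
# Bilinear maps in dimension at most three none of whose partial maps is onto
-/

set_option autoImplicit false
set_option linter.unusedSectionVars false

namespace CfsgLib.LocalSym5

open Module
open scoped Matrix

variable {k V Q : Type*} [Field k] [AddCommGroup V] [Module k V] [AddCommGroup Q] [Module k Q]

theorem forms_mul_eq_zero {f g : Dual k V} (h : ∀ v, f v * g v = 0) : f = 0 ∨ g = 0 := by
  by_contra hcon
  push Not at hcon
  obtain ⟨⟨a, ha⟩, ⟨b, hb⟩⟩ : (∃ a, f a ≠ 0) ∧ ∃ b, g b ≠ 0 :=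
    ⟨by by_contra h'; push Not at h'; exact hcon.1 (LinearMap.ext h'),
      by by_contra h'; push Not at h'; exact hcon.2 (LinearMap.ext h')⟩
  have hga := (mul_eq_zero.1 (h a)).resolve_left ha
  have hfb := (mul_eq_zero.1 (h b)).resolve_right hb
  have h' := h (a + b)
  rw [map_add, map_add, hga, hfb, add_zero, zero_add] at h'
  exact mul_ne_zero ha hb h'

theorem forms_mul_three_eq_zero [Infinite k] {f g h : Dual k V}
    (hz : ∀ v, f v * g v * h v = 0) : f = 0 ∨ g = 0 ∨ h = 0 := by
  classical
  by_contra hcon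
  push Not at hcon
  obtain ⟨a, ha⟩ : ∃ a, f a * g a ≠ 0 := by
    by_contra h'; push Not at h'
    rcases forms_mul_eq_zero h' with h1 | h1
    exacts [hcon.1 h1, hcon.2.1 h1]
  have hha : h a = 0 := (mul_eq_zero.1 (hz a)).resolve_left ha
  refine hcon.2.2 (LinearMap.ext fun v => ?_)
  have hfa := left_ne_zero_of_mul ha
  have hga := right_ne_zero_of_mul ha
  obtain ⟨t, ht⟩ := Infinite.exists_notMem_finset ({-(f v / f a), -(g v / g a)} : Finset k)
  simp only [Finset.mem_insert, Finset.mem_singleton, not_or] at ht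
  have h' := hz (v + t • a)
  simp only [map_add, map_smul, smul_eq_mul, hha, mul_zero, add_zero] at h'
  rcases mul_eq_zero.1 h' with h'' | h''
  · exfalso
    rcases mul_eq_zero.1 h'' with h1 | h1
    · exact ht.1 (by rw [eq_neg_iff_add_eq_zero, ← mul_right_inj' hfa, mul_add, mul_div_cancel₀ _ hfa,
        mul_comm, mul_zero, ← h1, add_comm])
    · exact ht.2 (by rw [eq_neg_iff_add_eq_zero, ← mul_right_inj' hga, mul_add, mul_div_cancel₀ _ hga,
        mul_comm, mul_zero, ← h1, add_comm])
  · exact h''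

theorem poly_three_eq_zero [Infinite k] {a b c : k}
    (h : ∀ t : k, a * t + b * t ^ 2 + c * t ^ 3 = 0) : a = 0 ∧ b = 0 ∧ c = 0 := by
  have hp : (Polynomial.C a * Polynomial.X + Polynomial.C b * Polynomial.X ^ 2
      + Polynomial.C c * Polynomial.X ^ 3) = 0 :=
    Polynomial.funext fun t => by simpa using h t
  refine ⟨?_, ?_, ?_⟩
  · simpa [Polynomial.coeff_X] using congrArg (fun p => Polynomial.coeff p 1) hp
  · simpa [Polynomial.coeff_X] using congrArg (fun p => Polynomial.coeff p 2) hp
  · simpa [Polynomial.coeff_X] using congrArg (fun p => Polynomial.coeff p 3) hp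

variable [FiniteDimensional k V] [FiniteDimensional k Q] (β : V →ₗ[k] V →ₗ[k] Q)

/-- A family of maps of rank at most one, spanning and without common kernel, is one-dimensional. -/
theorem exists_rank_two (h2 : 2 ≤ finrank k V) (hQ : 2 ≤ finrank k Q)
    (hspan : Submodule.span k {q | ∃ u v, β u v = q} = ⊤)
    (hker : ∀ v, (∀ u, β u v = 0) → v = 0) : ∃ x, 2 ≤ finrank k (LinearMap.range (β x)) := by
  by_contra hcon
  push Not at hcon
  obtain ⟨x, v₀, hx⟩ : ∃ x v, β x v ≠ 0 := by
    by_contra h; push Not at h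
    have : (⊤ : Submodule k Q) = ⊥ := hspan ▸ Submodule.span_eq_bot.2 (by
      rintro q ⟨u, v, rfl⟩; exact h u v)
    rw [← finrank_top k Q, this, finrank_bot] at hQ
    omega
  have hline : ∀ z a b, β z a ≠ 0 → β z b ∈ Submodule.span k {β z a} := by
    intro z a b ha
    have h1 : finrank k (LinearMap.range (β z)) ≤ finrank k (Submodule.span k {β z a}) := by
      rw [finrank_span_singleton ha]
      have := hcon z
      omega
    rw [Submodule.eq_of_le_of_finrank_le ((Submodule.span_singleton_le_iff_mem _ _).2 (LinearMap.mem_range_self _ a)) h1]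
    exact LinearMap.mem_range_self _ b
  -- if the images of two members differ, their kernels agree
  have hpair : ∀ z y c, β z c ≠ 0 → ∀ e, β y e ∉ Submodule.span k {β z c} →
      ∀ u, β z u = 0 → β y u = 0 := by
    intro z y c hc e he u hu
    by_contra hne
    have hye : β y e ∈ Submodule.span k {β y u} := hline y u e hne
    by_cases hs : β (z + y) u = 0
    · rw [map_add, LinearMap.add_apply, hu, zero_add] at hs; exact hne hs
    · obtain ⟨r, hr⟩ := Submodule.mem_span_singleton.1 (hline (z + y) u c hs)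
      rw [map_add, LinearMap.add_apply, LinearMap.add_apply, hu, zero_add] at hr
      obtain ⟨q, hq⟩ := Submodule.mem_span_singleton.1 (hline y u c hne)
      rw [← hq] at hr
      obtain ⟨s, hs'⟩ := Submodule.mem_span_singleton.1 hye
      by_cases hrq : r = q
      · rw [hrq] at hr; exact hc (right_eq_add.1 hr)
      · refine he (Submodule.mem_span_singleton.2 ⟨s * (r - q)⁻¹, ?_⟩)
        rw [show β z c = (r - q) • β y u by rw [sub_smul, hr, add_sub_cancel_right], smul_smul,
          mul_assoc, inv_mul_cancel₀ (sub_ne_zero.2 hrq), mul_one, hs']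
  -- the kernel of `β x`
  obtain ⟨u, hu, hu0⟩ : ∃ u, β x u = 0 ∧ u ≠ 0 := by
    have h := LinearMap.finrank_range_add_finrank_ker (β x)
    have := hcon x
    obtain ⟨u, hu, hu0⟩ := (Submodule.ne_bot_iff _).1
      (fun h0 : LinearMap.ker (β x) = ⊥ => by rw [h0, finrank_bot] at h; omega)
    exact ⟨u, hu, hu0⟩
  obtain ⟨z, e, hze⟩ : ∃ z e, β z e ∉ Submodule.span k {β x v₀} := by
    by_contra h; push Not at h
    have : (⊤ : Submodule k Q) ≤ Submodule.span k {β x v₀} := hspan ▸ Submodule.span_le.2 (by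
      rintro q ⟨a, b, rfl⟩; exact h a b)
    have h' := Submodule.finrank_mono this
    rw [finrank_top, finrank_span_singleton hx] at h'
    omega
  have hzu : β z u = 0 := hpair x z v₀ hx e hze u hu
  refine hu0 (hker u fun y => ?_)
  by_cases hy : ∃ c, β y c ∉ Submodule.span k {β x v₀}
  · obtain ⟨c, hc⟩ := hy; exact hpair x y v₀ hx c hc u hu
  push Not at hy
  by_cases hy0 : ∀ c, β y c = 0
  · exact hy0 u
  push Not at hy0
  obtain ⟨c, hc⟩ := hy0
  refine hpair z y e (fun h => hze (h ▸ Submodule.zero_mem _)) c (fun hmem => ?_) u hzu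
  obtain ⟨r, hr⟩ := Submodule.mem_span_singleton.1 hmem
  by_cases hr0 : r = 0
  · exact hc (by rw [← hr, hr0, zero_smul])
  · refine hze ?_
    rw [show β z e = r⁻¹ • β y c by rw [← hr, smul_smul, inv_mul_cancel₀ hr0, one_smul]]
    exact Submodule.smul_mem _ _ (hy c)

theorem surjective_of_two_le {x : V} (hQ : finrank k Q ≤ 2)
    (h : 2 ≤ finrank k (LinearMap.range (β x))) : Function.Surjective (β x) :=
  LinearMap.range_eq_top.1 (Submodule.eq_top_of_finrank_eq (le_antisymm
    (Submodule.finrank_le _) (hQ.trans h)))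

/-- At most two dimensions: some partial map is onto. -/
theorem exists_surjective_of_le_two (h2 : 2 ≤ finrank k V) (hQ : finrank k Q ≤ 2)
    (hspan : Submodule.span k {q | ∃ u v, β u v = q} = ⊤)
    (hker : ∀ v, (∀ u, β u v = 0) → v = 0) : ∃ x, Function.Surjective (β x) := by
  rcases Nat.lt_or_ge (finrank k Q) 2 with hQ1 | hQ2
  · by_cases h : ∀ u v, β u v = 0
    · refine ⟨0, fun q => ⟨0, ?_⟩⟩
      have : q ∈ (⊥ : Submodule k Q) := by
        rw [← (Submodule.span_eq_bot (R := k) (s := {q | ∃ u v, β u v = q})).2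
          (by rintro q ⟨u, v, rfl⟩; exact h u v), hspan]
        trivial
      rw [map_zero, (Submodule.mem_bot k).1 this]
    · push Not at h
      obtain ⟨x, v, hv⟩ := h
      refine ⟨x, LinearMap.range_eq_top.1 (Submodule.eq_top_of_finrank_eq (le_antisymm
        (Submodule.finrank_le _) ?_))⟩
      have h1 : 1 ≤ finrank k (LinearMap.range (β x)) := by
        refine Nat.one_le_iff_ne_zero.2 fun h0 => hv ?_
        have := Submodule.finrank_eq_zero.1 h0
        exact (Submodule.mem_bot k).1 (this ▸ LinearMap.mem_range_self _ v)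
      omega
  · obtain ⟨x, hx⟩ := exists_rank_two β h2 hQ2 hspan hker
    exact ⟨x, surjective_of_two_le β hQ hx⟩

/-- Determinant identities along the line through a map of rank two. -/
theorem line_identities [Infinite k] (bV : Basis (Fin 3) k V) (bQ : Basis (Fin 3) k Q) {x : V}
    (h0 : β x (bV 0) = bQ 0) (h1 : β x (bV 1) = bQ 1) (h2 : β x (bV 2) = 0)
    (hns : ∀ z, ¬ Function.Surjective (β z)) (z : V) :
    let M : Fin 3 → Fin 3 → k := fun i j => bQ.coord i (β z (bV j))
    M 2 2 = 0 ∧ M 0 2 * M 2 0 + M 1 2 * M 2 1 = 0 ∧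
      M 0 2 * (M 1 0 * M 2 1 - M 1 1 * M 2 0) -
        M 1 2 * (M 0 0 * M 2 1 - M 0 1 * M 2 0) = 0 := by
  intro M
  have hx' : ∀ i j, bQ.coord i (β x (bV j)) = if i = j ∧ j ≠ 2 then 1 else 0 := by
    intro i j
    fin_cases j <;> fin_cases i <;> simp [h0, h1, h2, Finsupp.single_apply]
  have key : ∀ t : k, M 2 2 * t + ((M 0 0 + M 1 1) * M 2 2 - M 0 2 * M 2 0 - M 1 2 * M 2 1) * t ^ 2
      + (LinearMap.toMatrix bV bQ (β z)).det * t ^ 3 = 0 := by
    intro t
    have hdet : (LinearMap.toMatrix bV bQ (β (x + t • z))).det = 0 := by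
      by_contra hd
      refine hns (x + t • z) ?_
      have hu : IsUnit (LinearMap.toMatrix bV bQ (β (x + t • z))).det := isUnit_iff_ne_zero.2 hd
      exact (LinearEquiv.ofIsUnitDet hu).surjective
    rw [Matrix.det_fin_three] at hdet ⊢
    simp only [LinearMap.toMatrix_apply, map_add, map_smul, LinearMap.add_apply,
      LinearMap.smul_apply, Finsupp.add_apply, Finsupp.smul_apply, smul_eq_mul] at hdet ⊢
    simp only [Basis.coord_apply] at hx'
    simp only [hx'] at hdet
    simp only [M, Basis.coord_apply]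
    norm_num [Fin.ext_iff] at hdet
    linear_combination hdet
  obtain ⟨e1, e2, e3⟩ := poly_three_eq_zero key
  refine ⟨e1, by linear_combination -e2 + (M 0 0 + M 1 1) * e1, ?_⟩
  rw [Matrix.det_fin_three] at e3
  simp only [LinearMap.toMatrix_apply] at e3
  simp only [M, Basis.coord_apply] at e1 ⊢
  linear_combination e3 - ((bQ.repr (β z (bV 0)) 0) * (bQ.repr (β z (bV 1)) 1)
    - (bQ.repr (β z (bV 1)) 0) * (bQ.repr (β z (bV 0)) 1)) * e1

theorem eq_coord_sum (bQ : Basis (Fin 3) k Q) (q : Q) :
    q = bQ.coord 0 q • bQ 0 + bQ.coord 1 q • bQ 1 + bQ.coord 2 q • bQ 2 := by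
  refine (bQ.sum_repr q).symm.trans ?_
  rw [Fin.sum_univ_three]
  rfl

theorem exists_adapted {x y : V} {a b : V} (hV : finrank k V = 3) (hQ : finrank k Q = 3)
    (hy : β x y = 0) (hy0 : y ≠ 0) (hind : LinearIndependent k ![β x a, β x b]) :
    ∃ (bV : Basis (Fin 3) k V) (bQ : Basis (Fin 3) k Q),
      bV 0 = a ∧ bV 1 = b ∧ bV 2 = y ∧ bQ 0 = β x a ∧ bQ 1 = β x b := by
  have hV' : LinearIndependent k ![a, b, y] := by
    rw [Fintype.linearIndependent_iff]
    intro g hg
    simp only [Fin.sum_univ_three, Matrix.cons_val_zero, Matrix.cons_val_one, Matrix.head_cons,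
      Matrix.cons_val_two, Matrix.tail_cons] at hg
    have h := congrArg (β x) hg
    simp only [map_add, map_smul, hy, smul_zero, add_zero, map_zero] at h
    obtain ⟨e0, e1⟩ := LinearIndependent.pair_iff.1 hind _ _ h
    rw [e0, e1, zero_smul, zero_smul, zero_add, zero_add] at hg
    have e2 := (smul_eq_zero.1 hg).resolve_right hy0
    intro i; fin_cases i
    exacts [e0, e1, e2]
  obtain ⟨q, hq⟩ : ∃ q, q ∉ Submodule.span k (Set.range ![β x a, β x b]) := by
    by_contra h; push Not at h
    have h' := finrank_range_le_card (R := k) ![β x a, β x b]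
    rw [Set.finrank, (Submodule.eq_top_iff'.2 h), finrank_top, hQ, Fintype.card_fin] at h'
    omega
  have hQ' : LinearIndependent k ![β x a, β x b, q] := by
    have h := hind.finSnoc hq
    convert h using 1
    funext i; fin_cases i <;> rfl
  refine ⟨basisOfLinearIndependentOfCardEqFinrank hV' (by simp [hV]),
    basisOfLinearIndependentOfCardEqFinrank hQ' (by simp [hQ]), ?_⟩
  simp

/-- Three dimensions: an onto partial map, a compressed plane, or the cross product. -/
theorem trichotomy [Infinite k] (hV : finrank k V = 3) (hQ : finrank k Q = 3)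
    (hspan : Submodule.span k {q | ∃ u v, β u v = q} = ⊤)
    (hker : ∀ v, (∀ u, β u v = 0) → v = 0) :
    (∃ x, Function.Surjective (β x)) ∨
      (∃ (U : Submodule k V) (g : Q), 2 ≤ finrank k U ∧
        ∀ u, ∀ v ∈ U, β u v ∈ Submodule.span k {g}) ∨
      ∃ (E L : V ≃ₗ[k] (Fin 3 → k)) (C : (Fin 3 → k) ≃ₗ[k] Q),
        ∀ z v, β z v = C (E z ⨯₃ L v) := by
  classical
  refine or_iff_not_imp_left.2 fun hns => ?_
  push Not at hns
  obtain ⟨x, hx⟩ := exists_rank_two β (by omega) (by omega) hspan hker
  have hr : finrank k (LinearMap.range (β x)) = 2 := by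
    refine le_antisymm ?_ hx
    have h := Submodule.finrank_le (LinearMap.range (β x))
    by_contra hlt
    exact hns x (LinearMap.range_eq_top.1 (Submodule.eq_top_of_finrank_eq (by omega)))
  obtain ⟨y, hy, hy0⟩ : ∃ y, β x y = 0 ∧ y ≠ 0 := by
    have h := LinearMap.finrank_range_add_finrank_ker (β x)
    obtain ⟨u, hu, hu0⟩ := (Submodule.ne_bot_iff _).1
      (fun h0 : LinearMap.ker (β x) = ⊥ => by rw [h0, finrank_bot] at h; omega)
    exact ⟨u, hu, hu0⟩
  obtain ⟨a, b, hab⟩ : ∃ a b, LinearIndependent k ![β x a, β x b] := by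
    let bR := Module.finBasisOfFinrankEq k (LinearMap.range (β x)) hr
    obtain ⟨a, ha⟩ := (bR 0).2
    obtain ⟨b, hb⟩ := (bR 1).2
    refine ⟨a, b, ?_⟩
    have h := bR.linearIndependent.map' (LinearMap.range (β x)).subtype (Submodule.ker_subtype _)
    have e : ![β x a, β x b] = (LinearMap.range (β x)).subtype ∘ bR := by
      funext i; fin_cases i <;> simp [ha, hb]
    rw [e]; exact h
  obtain ⟨bV, bQ, e0, e1, e2, f0, f1⟩ := exists_adapted β hV hQ hy hy0 hab
  have I := line_identities β bV bQ (x := x) (by rw [e0, f0]) (by rw [e1, f1]) (by rw [e2, hy]) hns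
  let u : Fin 3 → Dual k V := fun i => (bQ.coord i).comp (β.flip y)
  have hu : ∀ i z, u i z = bQ.coord i (β z y) := fun i z => rfl
  have hu2 : ∀ z, u 2 z = 0 := fun z => by rw [hu, ← e2]; exact (I z).1
  by_cases hsurj : ∀ s t : k, ∃ z, u 0 z = s ∧ u 1 z = t
  · -- the cross product
    refine Or.inr ?_
    obtain ⟨z₁, a1, b1⟩ := hsurj 1 0
    obtain ⟨z₂, a2, b2⟩ := hsurj 0 1
    have hux : ∀ i, u i x = 0 := fun i => by rw [hu, hy, map_zero]
    have hZ : LinearIndependent k ![x, z₁, z₂] := by
      rw [Fintype.linearIndependent_iff]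
      intro g hg
      simp only [Fin.sum_univ_three, Matrix.cons_val_zero, Matrix.cons_val_one, Matrix.head_cons,
        Matrix.cons_val_two, Matrix.tail_cons] at hg
      have h0 := congrArg (u 0) hg
      have h1 := congrArg (u 1) hg
      simp only [map_add, map_smul, hux, a1, a2, b1, b2, smul_eq_mul, mul_zero, mul_one, zero_add,
        add_zero, map_zero] at h0 h1
      rw [h0, h1, zero_smul, zero_smul, add_zero, add_zero] at hg
      have hx0 : x ≠ 0 := fun h => by
        rw [h, map_zero, LinearMap.range_zero, finrank_bot] at hr; omega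
      have h2 := (smul_eq_zero.1 hg).resolve_right hx0
      intro i; fin_cases i
      exacts [h2, h0, h1]
    let bZ := basisOfLinearIndependentOfCardEqFinrank hZ (by simp [hV])
    have hZ0 : bZ 0 = x := by simp [bZ]
    have hZ1 : bZ 1 = z₁ := by simp [bZ]
    have hZ2 : bZ 2 = z₂ := by simp [bZ]
    let M : Fin 3 → Fin 3 → Dual k V := fun i j => (bQ.coord i).comp (β.flip (bV j))
    have hM : ∀ i j z, M i j z = bQ.coord i (β z (bV j)) := fun i j z => rfl
    have hMu : ∀ i z, M i 2 z = u i z := fun i z => by rw [hM, e2]; rfl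
    have hMx : ∀ i j, M i j x = bQ.coord i (β x (bV j)) := fun i j => rfl
    have hdec : ∀ (f : Dual k V) (z : V), f z = bZ.coord 0 z * f x + bZ.coord 1 z * f z₁
        + bZ.coord 2 z * f z₂ := fun f z => by
      refine (congrArg f (bZ.sum_repr z).symm).trans ?_
      rw [Fin.sum_univ_three, hZ0, hZ1, hZ2]
      simp only [map_add, map_smul, smul_eq_mul]
      rfl
    have hu0' : ∀ z, u 0 z = bZ.coord 1 z := fun z => by rw [hdec (u 0) z, hux, a1, a2]; ring
    have hu1' : ∀ z, u 1 z = bZ.coord 2 z := fun z => by rw [hdec (u 1) z, hux, b1, b2]; ring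
    have hwx : M 2 0 x = 0 ∧ M 2 1 x = 0 := by
      constructor <;> rw [hMx] <;> simp [e0, e1, ← f0, ← f1]
    have hq : ∀ z, u 0 z * M 2 0 z + u 1 z * M 2 1 z = 0 := fun z => by
      rw [← hMu, ← hMu]; exact (I z).2.1
    have w1 : M 2 0 z₁ = 0 := by have h := hq z₁; rw [a1, b1] at h; simpa using h
    have w2 : M 2 1 z₂ = 0 := by have h := hq z₂; rw [a2, b2] at h; simpa using h
    set g := M 2 0 z₂ with hg
    have w3 : M 2 1 z₁ = -g := by
      have h := hq (z₁ + z₂)
      simp only [map_add, a1, a2, b1, b2, w1, w2, ← hg, add_zero, zero_add, one_mul] at h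
      linear_combination h
    have hw0 : ∀ z, M 2 0 z = g * bZ.coord 2 z := fun z => by
      rw [hdec (M 2 0) z, hwx.1, w1, ← hg]; ring
    have hw1 : ∀ z, M 2 1 z = -g * bZ.coord 1 z := fun z => by
      rw [hdec (M 2 1) z, hwx.2, w2, w3]; ring
    have hg0 : g ≠ 0 := fun h => by
      have htop : (⊤ : Submodule k Q) ≤ LinearMap.ker (bQ.coord 2) := hspan ▸ Submodule.span_le.2 (by
        rintro q ⟨z, v, rfl⟩
        rw [SetLike.mem_coe, LinearMap.mem_ker, ← bV.sum_repr v]
        simp only [Fin.sum_univ_three, map_add, map_smul]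
        rw [← hM, ← hM, ← hM, hw0, hw1, hMu, hu2, h]
        simp)
      simpa using LinearMap.mem_ker.1 (htop (x := bQ 2) trivial)
    have hcub : ∀ z, bZ.coord 1 z * (M 1 0 z * bZ.coord 1 z + M 1 1 z * bZ.coord 2 z) -
        bZ.coord 2 z * (M 0 0 z * bZ.coord 1 z + M 0 1 z * bZ.coord 2 z) = 0 := fun z => by
      have h := (I z).2.2
      dsimp only at h
      rw [← hM, ← hM, ← hM, ← hM, ← hM, ← hM, ← hM, ← hM, hMu, hMu, hu0', hu1', hw0, hw1] at h
      refine ((mul_eq_zero (a := -g)).1 ?_).resolve_left (neg_ne_zero.2 hg0)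
      linear_combination h
    have hc0 : ∀ i, bZ.coord i x = if i = 0 then 1 else 0 := fun i => by
      rw [← hZ0]; simp [Finsupp.single_apply, eq_comm]
    have hc1 : ∀ i, bZ.coord i z₁ = if i = 1 then 1 else 0 := fun i => by
      rw [← hZ1]; simp [Finsupp.single_apply, eq_comm]
    have hc2 : ∀ i, bZ.coord i z₂ = if i = 2 then 1 else 0 := fun i => by
      rw [← hZ2]; simp [Finsupp.single_apply, eq_comm]
    have c1 : M 1 0 z₁ = 0 := by simpa [hc1] using hcub z₁
    have c2 : M 0 1 z₂ = 0 := by simpa [hc2] using hcub z₂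
    have key : ∀ t : k, (M 1 1 z₁ + M 1 0 z₂ - M 0 0 z₁) * t
        + (M 1 1 z₂ - M 0 0 z₂ - M 0 1 z₁) * t ^ 2 + 0 * t ^ 3 = 0 := fun t => by
      have h := hcub (z₁ + t • z₂)
      simp [map_add, map_smul, hc1, hc2, c1, c2] at h
      linear_combination h
    obtain ⟨c3, c4, -⟩ := poly_three_eq_zero key
    let K : V →ₗ[k] V := (bZ.coord 1).smulRight (bV 0) + (bZ.coord 2).smulRight (bV 1)
      - (bZ.coord 0 + M 0 0 z₁ • bZ.coord 1 + M 1 1 z₂ • bZ.coord 2).smulRight (bV 2)
    have hMx00 : M 0 0 x = 1 ∧ M 0 1 x = 0 ∧ M 1 0 x = 0 ∧ M 1 1 x = 1 := by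
      refine ⟨?_, ?_, ?_, ?_⟩ <;> rw [hMx] <;> simp [e0, e1, ← f0, ← f1]
    have hK : ∀ z, β z (K z) = 0 := by
      intro z
      refine bQ.ext_elem fun i => ?_
      rw [map_zero, Finsupp.zero_apply, ← Basis.coord_apply]
      simp only [K, LinearMap.sub_apply, LinearMap.add_apply, LinearMap.smulRight_apply,
        LinearMap.smul_apply, map_sub, map_add, map_smul, ← hM, smul_eq_mul, hMu]
      rcases (show i = 0 ∨ i = 1 ∨ i = 2 by omega) with rfl | rfl | rfl
      · rw [hu0', hdec (M 0 0) z, hdec (M 0 1) z, hMx00.1, hMx00.2.1, c2]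
        linear_combination (-(bZ.coord 1 z * bZ.coord 2 z)) * c4
      · rw [hu1', hdec (M 1 0) z, hdec (M 1 1) z, hMx00.2.2.1, hMx00.2.2.2, c1]
        linear_combination (bZ.coord 1 z * bZ.coord 2 z) * c3
      · rw [hw0, hw1, hu2]
        ring
    have hKinj : Function.Injective K := (injective_iff_map_eq_zero K).2 fun z hz => by
      have h0 := congrArg (bV.coord 0) hz
      have h1 := congrArg (bV.coord 1) hz
      have h2 := congrArg (bV.coord 2) hz
      simp [K] at h0 h1 h2
      refine bZ.ext_elem fun i => ?_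
      rw [map_zero, Finsupp.zero_apply]
      fin_cases i
      · simpa [h0, h1] using h2
      · exact h0
      · exact h1
    let K' := LinearEquiv.ofBijective K ⟨hKinj, LinearMap.injective_iff_surjective.1 hKinj⟩
    let C : (Fin 3 → k) →ₗ[k] Q := (LinearMap.proj 0).smulRight (β (bZ 1) (K (bZ 2)))
      + (LinearMap.proj 1).smulRight (β (bZ 2) (K (bZ 0)))
      + (LinearMap.proj 2).smulRight (β (bZ 0) (K (bZ 1)))
    have halt : ∀ p q, β p (K q) = -β q (K p) := fun p q => by
      have h := hK (p + q)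
      simp only [map_add, LinearMap.add_apply, hK, add_zero, zero_add] at h
      exact eq_neg_of_add_eq_zero_right h
    have hC : ∀ z v, β z (K v) = C (bZ.equivFun z ⨯₃ bZ.equivFun v) := by
      intro z v
      conv_lhs => rw [← bZ.sum_repr z, ← bZ.sum_repr v]
      simp only [Fin.sum_univ_three, map_add, map_smul, LinearMap.add_apply, LinearMap.smul_apply,
        hK, smul_zero, zero_add, add_zero, halt (bZ 1) (bZ 0), halt (bZ 2) (bZ 1),
        halt (bZ 0) (bZ 2)]
      simp only [C, cross_apply, LinearMap.add_apply, LinearMap.smulRight_apply, LinearMap.proj_apply,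
        Basis.equivFun_apply, Matrix.cons_val_zero, Matrix.cons_val_one, Matrix.cons_val_two,
        Matrix.head_cons, Matrix.tail_cons]
      module
    have hCsurj : LinearMap.range C = ⊤ := top_le_iff.1 (hspan ▸ Submodule.span_le.2 (by
      rintro q ⟨z, v, rfl⟩
      refine ⟨bZ.equivFun z ⨯₃ bZ.equivFun (K'.symm v), ?_⟩
      rw [← hC, show K (K'.symm v) = v from K'.apply_symm_apply v]))
    have hCs := LinearMap.range_eq_top.1 hCsurj
    have hCb : Function.Bijective C := ⟨(LinearMap.injective_iff_surjective_of_finrank_eq_finrank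
      (by simp [hQ])).2 hCs, hCs⟩
    refine ⟨bZ.equivFun, K'.symm.trans bZ.equivFun, LinearEquiv.ofBijective C hCb, fun z v => ?_⟩
    rw [LinearEquiv.ofBijective_apply, LinearEquiv.trans_apply, ← hC,
      show K (K'.symm v) = v from K'.apply_symm_apply v]
  · -- a compressed plane
    refine Or.inl ?_
    obtain ⟨z₀, hz₀⟩ : ∃ z, β z y ≠ 0 := by
      by_contra h; push Not at h; exact hy0 (hker y h)
    have hprop : ∀ z, u 0 z₀ * u 1 z - u 1 z₀ * u 0 z = 0 := by
      intro z
      by_contra hd
      refine hsurj fun s t => ?_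
      set d := u 0 z₀ * u 1 z - u 1 z₀ * u 0 z
      refine ⟨(d⁻¹ * (s * u 1 z - t * u 0 z)) • z₀ + (d⁻¹ * (t * u 0 z₀ - s * u 1 z₀)) • z, ?_, ?_⟩
      · simp only [map_add, map_smul, smul_eq_mul]
        linear_combination s * (inv_mul_cancel₀ hd)
      · simp only [map_add, map_smul, smul_eq_mul]
        linear_combination t * (inv_mul_cancel₀ hd)
    obtain ⟨v, v', hvv, hv⟩ : ∃ v v', LinearIndependent k ![β x v, β x v'] ∧
        ∀ z, β z y ∈ Submodule.span k {β x v} := by
      have hne : u 0 z₀ ≠ 0 ∨ u 1 z₀ ≠ 0 := by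
        by_contra h; push Not at h
        apply hz₀
        rw [eq_coord_sum bQ (β z₀ y), ← hu, ← hu, ← hu, h.1, h.2, hu2]; simp
      have hzy : ∀ z, β z y = u 0 z • β x a + u 1 z • β x b := fun z => by
        conv_lhs => rw [eq_coord_sum bQ (β z y), ← hu, ← hu, ← hu, hu2, f0, f1, zero_smul, add_zero]
      refine ⟨u 0 z₀ • a + u 1 z₀ • b, if u 0 z₀ = 0 then a else b, ?_, fun z => ?_⟩
      · rw [LinearIndependent.pair_iff]
        intro s t hst
        split_ifs at hst with h0
        · simp only [map_add, map_smul, h0, zero_smul, zero_add, smul_smul] at hst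
          obtain ⟨e, e'⟩ := LinearIndependent.pair_iff.1 hab t (s * u 1 z₀) (by rw [← hst]; abel)
          exact ⟨(mul_eq_zero.1 e').resolve_right (hne.resolve_left (not_not.2 h0)), e⟩
        · simp only [map_add, map_smul, smul_add, smul_smul, add_assoc, ← add_smul] at hst
          obtain ⟨e, e'⟩ := LinearIndependent.pair_iff.1 hab _ _ hst
          have hs := (mul_eq_zero.1 e).resolve_right h0
          exact ⟨hs, by simpa [hs] using e'⟩
      · rw [Submodule.mem_span_singleton, hzy]
        simp only [map_add, map_smul, smul_add, smul_smul]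
        rcases hne with h | h
        · refine ⟨u 0 z / u 0 z₀, ?_⟩
          rw [div_mul_cancel₀ _ h, show u 0 z / u 0 z₀ * u 1 z₀ = u 1 z by
            field_simp
            linear_combination -(hprop z)]
        · refine ⟨u 1 z / u 1 z₀, ?_⟩
          rw [div_mul_cancel₀ _ h, show u 1 z / u 1 z₀ * u 0 z₀ = u 0 z by
            field_simp
            linear_combination (hprop z)]
    obtain ⟨bV', bQ', g0, g1, g2, k0, k1⟩ := exists_adapted β hV hQ hy hy0 hvv
    have I' := line_identities β bV' bQ' (x := x) (by rw [g0, k0]) (by rw [g1, k1])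
      (by rw [g2, hy]) hns
    let M : Fin 3 → Fin 3 → Dual k V := fun i j => (bQ'.coord i).comp (β.flip (bV' j))
    have hM : ∀ i j z, M i j z = bQ'.coord i (β z (bV' j)) := fun i j z => rfl
    have h12 : ∀ z, M 1 2 z = 0 ∧ M 2 2 z = 0 := fun z => by
      obtain ⟨r, hr'⟩ := Submodule.mem_span_singleton.1 (hv z)
      rw [hM, hM, g2, ← hr', ← k0]
      simp
    have h02 : M 0 2 ≠ 0 := fun h => hz₀ (by
      rw [eq_coord_sum bQ' (β z₀ y), ← g2, ← hM, ← hM, ← hM, h, (h12 z₀).1, (h12 z₀).2]; simp)
    have h20 : M 2 0 = 0 := by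
      refine (forms_mul_eq_zero fun z => ?_).resolve_left h02
      have h := (I' z).2.1
      dsimp only at h
      rw [← hM, ← hM, ← hM, ← hM, (h12 z).1, zero_mul, add_zero] at h
      exact h
    have h10 : M 1 0 = 0 := by
      have hz3 : ∀ z, M 0 2 z * M 1 0 z * M 2 1 z = 0 := fun z => by
        have h := (I' z).2.2
        dsimp only at h
        rw [← hM, ← hM, ← hM, ← hM, ← hM, ← hM, ← hM, ← hM, (h12 z).1, h20, LinearMap.zero_apply] at h
        linear_combination h
      rcases forms_mul_three_eq_zero (f := M 0 2) (g := M 1 0) (h := M 2 1) hz3 with h | h | h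
      · exact absurd h h02
      · exact h
      · exfalso
        have htop : (⊤ : Submodule k Q) ≤ LinearMap.ker (bQ'.coord 2) := hspan ▸ Submodule.span_le.2 (by
          rintro q ⟨z, w, rfl⟩
          rw [SetLike.mem_coe, LinearMap.mem_ker, ← bV'.sum_repr w]
          simp only [Fin.sum_univ_three, map_add, map_smul]
          rw [← hM, ← hM, ← hM, h20, h, (h12 z).2]
          simp)
        simpa using LinearMap.mem_ker.1 (htop (x := bQ' 2) trivial)
    refine ⟨Submodule.span k (Set.range ![bV' 0, bV' 2]), bQ' 0, ?_, fun z w hw => ?_⟩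
    · rw [finrank_span_eq_card]
      · simp
      · have h := bV'.linearIndependent.comp ![(0 : Fin 3), 2] (by decide)
        convert h using 1
        funext i; fin_cases i <;> rfl
    · have hle : Submodule.span k (Set.range ![bV' 0, bV' 2]) ≤
          (Submodule.span k {bQ' 0}).comap (β z) := by
        refine Submodule.span_le.2 ?_
        rintro _ ⟨i, rfl⟩
        rw [SetLike.mem_coe, Submodule.mem_comap, Submodule.mem_span_singleton]
        fin_cases i
        · refine ⟨M 0 0 z, ?_⟩
          show _ = β z (bV' 0)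
          conv_rhs => rw [eq_coord_sum bQ' (β z (bV' 0))]
          rw [← hM, ← hM, ← hM, h10, h20]
          simp
        · refine ⟨M 0 2 z, ?_⟩
          show _ = β z (bV' 2)
          conv_rhs => rw [eq_coord_sum bQ' (β z (bV' 2))]
          rw [← hM, ← hM, ← hM, (h12 z).1, (h12 z).2]
          simp
      exact hle hw

end CfsgLib.LocalSym5
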