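import Cfsg.Agent.Lib.LocalSym5.Main
import Cfsg.Agent.Lib.TwoChars.RankOne

/-!
# A block with one Brauer character and five characters has defect group of order five or eight
-/

set_option autoImplicit false
set_option linter.unusedSectionVars false
set_option linter.style.haveILetI false
set_option maxSynthPendingDepth 3

namespace CfsgLib.LocalSym5

open Cfsg CfsgLib.TwoChars CfsgLib.BrauerPairs CfsgLib.Characters CfsgLib.Blocks
open CfsgLib.Contribution Module
open scoped Classical

universe u

section Corner

variable {k : Type*} [Field k] [IsAlgClosed k] {R : Type u} [Ring R] [Algebra k R]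
  [FiniteDimensional k R]

/-- The corner bound, for a corner whose centre has dimension five. -/
theorem finrank_corner_le {e f : R} {τ : R →ₗ[k] k} (D : SymBlk e τ) (hf : IsMinIdem e f)
    (h5 : finrank k (centralPart (corner k f)) = 5) : finrank k (corner k f) ≤ 10 := by
  have idem : IsIdempotentElem f := hf.idem
  have hmem : ∀ a : idem.Corner, f * a.1 = a.1 ∧ a.1 * f = a.1 := fun a =>
    (Subsemigroup.mem_corner_iff idem).1 a.2
  let η : k →+* idem.Corner :=
    { toFun := fun r => ⟨r • f, r • f, by simp [mul_smul_comm, smul_mul_assoc, hf.idem]⟩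
      map_one' := Subtype.ext (one_smul k f)
      map_mul' := fun r s => Subtype.ext (by
        show (r * s) • f = r • f * s • f
        rw [smul_mul_assoc, mul_smul_comm, hf.idem, smul_smul])
      map_zero' := Subtype.ext (zero_smul k f)
      map_add' := fun r s => Subtype.ext (add_smul r s f) }
  letI : Algebra k idem.Corner := η.toAlgebra' fun r a => Subtype.ext (by
    show r • f * a.1 = a.1 * r • f
    rw [smul_mul_assoc, mul_smul_comm, (hmem a).1, (hmem a).2])
  have hsmul : ∀ (r : k) (a : idem.Corner), (r • a : idem.Corner).1 = r • a.1 :=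
    fun r a => by
      rw [Algebra.smul_def]
      show r • f * a.1 = _
      rw [smul_mul_assoc, (hmem a).1]
  let v : idem.Corner →ₗ[k] R :=
    { toFun := fun a => a.1
      map_add' := fun _ _ => rfl
      map_smul' := fun r a => hsmul r a }
  have hv : Function.Injective v := Subtype.val_injective
  haveI : FiniteDimensional k idem.Corner := Module.Finite.of_injective v hv
  have hrange : LinearMap.range v = corner k f := by
    ext x
    rw [corner_mem_iff hf.idem]
    exact ⟨fun ⟨a, ha⟩ => ha ▸ hmem a,
      fun h => ⟨⟨x, (Subsemigroup.mem_corner_iff idem).2 h⟩, rfl⟩⟩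
  have hdim : finrank k idem.Corner = finrank k (corner k f) := by
    rw [← LinearMap.finrank_range_of_inj hv, hrange]
  obtain ⟨C, hCn, hCf, hCmul, hCff⟩ := hf.exists_functional (k := k)
  let φ : idem.Corner →ₐ[k] k :=
    { toFun := fun a => C a.1
      map_one' := hCf
      map_mul' := fun a b => by
        show C (a.1 * b.1) = C a.1 * C b.1
        have h := hCmul a.1 b.1
        rwa [(hmem a).2] at h
      map_zero' := map_zero C
      map_add' := fun a b => map_add C _ _
      commutes' := fun r => by
        show C (r • f) = r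
        rw [map_smul, hCf, smul_eq_mul, mul_one] }
  let S : Data k idem.Corner :=
    { φ := φ
      nil := fun a ha => by
        have h := hCn a.1
        rw [(hmem a).1, (hmem a).2, show C a.1 = 0 from ha, zero_smul, sub_zero] at h
        obtain ⟨n, hn⟩ := h
        refine ⟨n + 1, Subtype.ext ?_⟩
        have hpow : ∀ j : ℕ, (a ^ (j + 1) : idem.Corner).1 = a.1 ^ (j + 1) := by
          intro j
          induction j with
          | zero => rw [zero_add, pow_one, pow_one]
          | succ j ih =>
            rw [pow_succ a, pow_succ a.1, ← ih]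
            rfl
        rw [hpow, pow_succ, hn, zero_mul]
        rfl
      τ := τ.comp v
      symm := fun x y => D.symm x.1 y.1
      nondeg := fun x hx => Subtype.ext (D.corner_nondeg hf
        ((corner_mem_iff hf.idem).2 (hmem x)) fun y hy =>
          hx ⟨y, (Subsemigroup.mem_corner_iff idem).2 ((corner_mem_iff hf.idem).1 hy)⟩) }
  have hcentre : finrank k (Subalgebra.center k idem.Corner) = 5 := by
    rw [← h5]
    let w : Subalgebra.center k idem.Corner →ₗ[k] R :=
      v.comp (Subalgebra.center k idem.Corner).val.toLinearMap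
    have hw : Function.Injective w := hv.comp Subtype.val_injective
    rw [← LinearMap.finrank_range_of_inj hw]
    suffices heq : LinearMap.range w = centralPart (corner k f) by rw [heq]
    ext x
    rw [mem_centralPart]
    constructor
    · rintro ⟨⟨a, ha⟩, rfl⟩
      refine ⟨(corner_mem_iff hf.idem).2 (hmem a), fun z hz => ?_⟩
      exact (congrArg Subtype.val (Subalgebra.mem_center_iff.1 ha
        ⟨z, (Subsemigroup.mem_corner_iff idem).2 ((corner_mem_iff hf.idem).1 hz)⟩)).symm
    · rintro ⟨hx, hc⟩
      exact ⟨⟨⟨x, (Subsemigroup.mem_corner_iff idem).2 ((corner_mem_iff hf.idem).1 hx)⟩,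
        Subalgebra.mem_center_iff.2 fun b => Subtype.ext
          (hc _ ((corner_mem_iff hf.idem).2 (hmem b))).symm⟩, rfl⟩
  rw [← hdim]
  exact Data.finrank_le_ten S hcentre

end Corner

variable {G : Type u} [Group G] [Fintype G] {p : ℕ} [hp : Fact p.Prime] {M : Ideal AlgInt}

/-- The order of the defect groups. -/
theorem pow_defect_five (hM : IsPModular p M) {B : Set (IrrCharacter G)} (hB : IsPBlock M B)
    (hl : blockRank p B = 1) (hk : Nat.card B = 5) :
    p ^ blockDefect p B = 5 ∨ p ^ blockDefect p B = 8 := by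
  haveI : Fintype (ConjClasses G) := Fintype.ofFinite _
  haveI := hM.2.1
  haveI := BPStar.isAlgClosed_res hM
  haveI := charP_res hM
  obtain ⟨τ, D⟩ := exists_symBlk hM hB
  obtain ⟨f, hf⟩ : ∃ f, IsMinIdem (eG hM B) f := by
    by_contra hcon
    push Not at hcon
    have h := mem_of_minIdem_mem (e := eG hM B) (⊥ : Submodule (ResK M) _)
      (fun f hf => absurd hf (hcon f)) _ D.idem D.idem
    exact (isBlockIdem_eG hM hB).ne_zero ((Submodule.mem_bot _).1 h)
  have hfull := e_mem_twoSided_of_rankOne hM hB hl hf
  have hZ : finrank (ResK M) (centralPart (corner (ResK M) f)) = 5 :=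
    ((D.finrank_centralPart hf hfull).trans (finrank_blockCentre hM hB)).trans hk
  have hL10 := finrank_corner_le D hf hZ
  have hL5 : 5 ≤ finrank (ResK M) (corner (ResK M) f) :=
    hZ ▸ Submodule.finrank_mono fun c hc => (mem_centralPart.1 hc).1
  obtain ⟨n, hA, hE⟩ := D.finrank_free hf hfull
  set L := finrank (ResK M) (corner (ResK M) f)
  obtain ⟨P⟩ := (inferInstance : Nonempty (Sylow p G))
  have hdvd := card_dvd_finrank_mulRight (P : Subgroup G) P.isPGroup' hf.idem (K := ResK M)
  rw [hA, P.card_eq_multiplicity] at hdvd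
  obtain ⟨g, d, hval, hsq⟩ := rank_one_structure hM hB hl
  have hLR : LinearMap.mulLeft (ResK M) (eG hM B) = LinearMap.mulRight (ResK M) (eG hM B) :=
    LinearMap.ext fun x => D.central x
  rw [hLR, ModRep.finrank_block hM hB, finsum_block_eq] at hE
  set F : ℤ := ∑ ψ ∈ members B, g ψ * (charDegree (ψ : G → ℂ) : ℤ)
  have hdegN : ∀ χ ∈ members B, charDegree (χ : G → ℂ) = d χ * F.natAbs := by
    intro χ hχ
    have h := hval χ (mem_members.1 hχ) 1
      (by rw [IsPRegular, orderOf_one]; exact hM.1.not_dvd_one)
    have h' : (charDegree (χ : G → ℂ) : ℤ) = (d χ : ℤ) * F := by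
      apply Int.cast_injective (α := ℂ)
      rw [(CfsgLib.ClassCount.degree_eq χ).1] at h
      simp only [F, Int.cast_mul, Int.cast_natCast, Int.cast_sum]
      rw [h]
      congr 1
      exact Finset.sum_congr rfl fun ψ _ => by rw [(CfsgLib.ClassCount.degree_eq ψ).1]
    simpa [Int.natAbs_mul] using congrArg Int.natAbs h'
  have hdpos : ∀ χ ∈ members B, 1 ≤ d χ := fun χ hχ => by
    have hpos := (CfsgLib.ClassCount.degree_eq χ).2.2
    rw [hdegN χ hχ] at hpos
    exact Nat.pos_of_mul_pos_right hpos
  have hcard : (members B).card = 5 := by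
    rw [show members B = B.toFinset from
        Finset.ext fun χ => by rw [mem_members, Set.mem_toFinset],
      Set.toFinset_card, ← Nat.card_eq_fintype_card, hk]
  rw [Finset.sum_congr rfl fun χ hχ => by rw [hdegN χ hχ, mul_pow], ← Finset.sum_mul, hsq] at hE
  obtain ⟨χ, hχ, -, hmin⟩ := exists_height_zero hM hB
  have hpos := (CfsgLib.ClassCount.degree_eq χ).2.2
  rw [hdegN χ (mem_members.2 hχ)] at hpos
  have hF0 : F.natAbs ≠ 0 := fun h => by rw [h, mul_zero] at hpos; exact lt_irrefl 0 hpos
  have hd0 : d χ ≠ 0 := fun h => by rw [h, zero_mul] at hpos; exact lt_irrefl 0 hpos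
  have hn0 : n ≠ 0 := fun h => by
    rw [h, zero_pow two_ne_zero, zero_mul] at hE
    exact mul_ne_zero (pow_ne_zero _ hp.out.ne_zero) (pow_ne_zero 2 hF0) hE
  have hL0 : L ≠ 0 := by omega
  have hE' := congrArg (fun t => t.factorization p) hE
  simp only [Nat.factorization_mul (pow_ne_zero _ hp.out.ne_zero) (pow_ne_zero 2 hF0),
    Nat.factorization_mul (pow_ne_zero 2 hn0) hL0, Nat.factorization_pow, Finsupp.add_apply,
    Finsupp.smul_apply, smul_eq_mul, hp.out.factorization_self, mul_one] at hE'
  rw [hp.out.pow_dvd_iff_le_factorization (mul_ne_zero hn0 hL0),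
    Nat.factorization_mul hn0 hL0, Finsupp.add_apply] at hdvd
  rw [hdegN χ (mem_members.2 hχ), Nat.factorization_mul hd0 hF0, Finsupp.add_apply] at hmin
  have hdef : blockDefect p B = (Nat.card G).factorization p - minExp p B := rfl
  have hle : blockDefect p B ≤ L.factorization p := by omega
  have hq : p ^ blockDefect p B ≤ 10 := (Nat.le_of_dvd (by omega)
    ((hp.out.pow_dvd_iff_le_factorization hL0).2 hle)).trans hL10
  rw [← hsq] at hq ⊢
  have hge : 5 ≤ ∑ χ ∈ members B, d χ ^ 2 := by
    rw [← hcard, Finset.card_eq_sum_ones]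
    exact Finset.sum_le_sum fun χ hχ => Nat.one_le_pow 2 _ (hdpos χ hχ)
  have hle2 : ∀ χ ∈ members B, d χ ≤ 2 := fun χ hχ => by
    have h1 : ∑ ψ ∈ (members B).erase χ, 1 ≤ ∑ ψ ∈ (members B).erase χ, d ψ ^ 2 :=
      Finset.sum_le_sum fun ψ hψ => Nat.one_le_pow 2 _ (hdpos ψ (Finset.mem_of_mem_erase hψ))
    rw [← Finset.card_eq_sum_ones, Finset.card_erase_of_mem hχ, hcard] at h1
    have h2 := Finset.add_sum_erase (members B) (fun ψ => d ψ ^ 2) hχ
    by_contra hcon
    have : 3 ^ 2 ≤ d χ ^ 2 := Nat.pow_le_pow_left (by omega) 2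
    omega
  have hmod : (∑ χ ∈ members B, d χ ^ 2) % 3 = 2 := by
    rw [Finset.sum_nat_mod, Finset.sum_congr rfl (g := fun _ => 1), Finset.sum_const, hcard]
    · rfl
    · intro χ hχ
      have := hdpos χ hχ
      have := hle2 χ hχ
      interval_cases d χ <;> rfl
  omega

end CfsgLib.LocalSym5
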