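import Cfsg.Agent.Lib.LocalSym5.Setting

/-!
# A one-dimensional second layer forces commutativity
-/

set_option autoImplicit false
set_option linter.unusedSectionVars false

namespace CfsgLib.LocalSym5

open Module

variable {k A : Type*} [Field k] [Ring A] [Algebra k A] [FiniteDimensional k A] (S : Data k A)

namespace Data

theorem mem_one {a : A} (ha : a ∈ S.J) : a ∈ S.P 1 := by rwa [S.P_one]

theorem P2_le_of_mul {X : Submodule k A} (h : ∀ a ∈ S.P 1, ∀ b ∈ S.P 1, a * b ∈ X) :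
    S.P 2 ≤ X := by
  rw [P, pow_two]
  exact Submodule.mul_le.2 fun a ha b hb => h a (S.mem_one ha) b (S.mem_one hb)

variable {N : ℕ} (hN : S.P (N + 1) = ⊥) (h3 : S.P 3 ≠ ⊥)
  {w : A} (hw : S.P 2 ≤ Submodule.span k {w} ⊔ S.P 3)
include hN h3 hw

theorem exchange {u : A} (hu : u ∈ S.P 2) (hu3 : u ∉ S.P 3) :
    S.P 2 ≤ Submodule.span k {u} ⊔ S.P 3 := by
  obtain ⟨_, h1, v, hv, rfl⟩ := Submodule.mem_sup.1 (hw hu)
  obtain ⟨c, rfl⟩ := Submodule.mem_span_singleton.1 h1
  have hc : c ≠ 0 := fun h => hu3 (by rwa [h, zero_smul, zero_add])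
  refine hw.trans (sup_le ((Submodule.span_singleton_le_iff_mem _ _).2 ?_) le_sup_right)
  have h := Submodule.add_mem_sup
    (Submodule.smul_mem _ c⁻¹ (Submodule.mem_span_singleton_self (c • w + v)))
    ((S.P 3).neg_mem ((S.P 3).smul_mem c⁻¹ hv))
  rwa [show c⁻¹ • (c • w + v) + -(c⁻¹ • v) = w by
    rw [smul_add, smul_smul, inv_mul_cancel₀ hc, one_smul, add_neg_cancel_right]] at h

theorem exists_sq : ∃ x ∈ S.P 1, x * x ∉ S.P 3 := by
  by_contra hcon
  push Not at hcon
  have hanti : ∀ u ∈ S.P 1, ∀ v ∈ S.P 1, u * v + v * u ∈ S.P 3 := fun u hu v hv => by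
    have h1 := (S.P 3).sub_mem
      ((S.P 3).sub_mem (hcon _ ((S.P 1).add_mem hu hv)) (hcon u hu)) (hcon v hv)
    rwa [show (u + v) * (u + v) - u * u - v * v = u * v + v * u by
      rw [add_mul, mul_add, mul_add]; abel] at h1
  obtain ⟨u, hu, v, hv, huv⟩ : ∃ u ∈ S.P 1, ∃ v ∈ S.P 1, u * v ∉ S.P 3 := by
    by_contra hcon'
    push Not at hcon'
    exact h3 (le_bot_iff.1 ((S.P_succ_le (n := 2) (by omega)).trans
      (S.P_eq_bot_of_le (by omega) (S.P2_le_of_mul hcon')).le))
  have hspan := S.exchange hN h3 hw (S.mul_mem_P (i := 1) (j := 1) hu hv) huv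
  refine h3 (S.P_eq_bot_of_le (by omega) ?_)
  have e3 : S.P 3 = S.J * S.P 2 := pow_succ' _ _
  have e4 : S.P 4 = S.J * S.P 3 := pow_succ' _ _
  conv_lhs => rw [e3]
  refine Submodule.mul_le.2 fun c hc z hz => ?_
  obtain ⟨_, h1, z', hz', rfl⟩ := Submodule.mem_sup.1 (hspan hz)
  obtain ⟨r, rfl⟩ := Submodule.mem_span_singleton.1 h1
  have hc1 := S.mem_one hc
  rw [mul_add, mul_smul_comm]
  refine (S.P 4).add_mem ((S.P 4).smul_mem _ ?_) (S.mul_mem_P (i := 1) (j := 3) hc1 hz')
  have k1 : c * (u * v) + u * (c * v) ∈ S.P 4 := by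
    rw [← mul_assoc, ← mul_assoc, ← add_mul]
    exact S.mul_mem_P (i := 3) (j := 1) (hanti c hc1 u hu) hv
  by_cases huu : u * c ∈ S.P 3
  · have h1 : u * (c * v) ∈ S.P 4 := by
      rw [← mul_assoc]; exact S.mul_mem_P (i := 3) (j := 1) huu hv
    simpa using (S.P 4).sub_mem k1 h1
  · have hsp := S.exchange hN h3 hw (S.mul_mem_P (i := 1) (j := 1) hu hc1) huu
    obtain ⟨_, h2, t, ht, htsum⟩ :=
      Submodule.mem_sup.1 (hsp (S.mul_mem_P (i := 1) (j := 1) hu hv))
    obtain ⟨q, rfl⟩ := Submodule.mem_span_singleton.1 h2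
    rw [← htsum, mul_add, mul_smul_comm]
    refine (S.P 4).add_mem ((S.P 4).smul_mem _ ?_) (S.mul_mem_P (i := 1) (j := 3) hc1 ht)
    have h4 : c * (u * c) + u * (c * c) ∈ S.P 4 := by
      rw [← mul_assoc, ← mul_assoc, ← add_mul]
      exact S.mul_mem_P (i := 3) (j := 1) (hanti c hc1 u hu) hc1
    simpa using (S.P 4).sub_mem h4 (S.mul_mem_P (i := 1) (j := 3) hu (hcon c hc1))

/-- The algebra is then commutative. -/
theorem comm_of_thin : ∀ a b : A, a * b = b * a := by
  obtain ⟨x, hx, hxx⟩ := S.exists_sq hN h3 hw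
  have hxspan := S.exchange hN h3 hw (S.mul_mem_P (i := 1) (j := 1) hx hx) hxx
  have hxpow : ∀ i, x ^ (i + 1) ∈ S.P (i + 1) := by
    intro i
    induction i with
    | zero => simpa using hx
    | succ i ih => rw [pow_succ]; exact S.mul_mem_P ih hx
  have hlayer : ∀ i, S.P (i + 2) ≤ Submodule.span k {x ^ (i + 2)} ⊔ S.P (i + 3) := by
    intro i
    induction i with
    | zero => simpa [pow_two] using hxspan
    | succ i ih =>
      rw [P, pow_succ']
      refine Submodule.mul_le.2 fun c hc z hz => ?_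
      have hc1 := S.mem_one hc
      obtain ⟨_, h1, z', hz', rfl⟩ := Submodule.mem_sup.1 (ih hz)
      obtain ⟨r, rfl⟩ := Submodule.mem_span_singleton.1 h1
      rw [mul_add, mul_smul_comm]
      have hz'' := S.mul_mem_P hc1 hz'
      rw [show 1 + (i + 3) = i + 1 + 3 by omega] at hz''
      refine Submodule.add_mem _ (Submodule.smul_mem _ _ ?_) (Submodule.mem_sup_right hz'')
      obtain ⟨_, h2, t, ht, htsum⟩ :=
        Submodule.mem_sup.1 (hxspan (S.mul_mem_P (i := 1) (j := 1) hc1 hx))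
      obtain ⟨q, rfl⟩ := Submodule.mem_span_singleton.1 h2
      rw [show c * x ^ (i + 2) = c * x * x ^ (i + 1) by rw [mul_assoc, ← pow_succ'], ← htsum,
        add_mul, smul_mul_assoc]
      refine Submodule.add_mem_sup (Submodule.mem_span_singleton.2 ⟨q, ?_⟩) ?_
      · rw [show i + 1 + 2 = i + 1 + 1 + 1 from rfl, pow_succ', pow_succ' x (i + 1), ← mul_assoc]
      · have := S.mul_mem_P ht (hxpow i)
        rwa [show 3 + (i + 1) = i + 1 + 3 by omega] at this
  have hzero : ∀ n, N + 1 ≤ n → ∀ q ∈ S.P n, q = 0 := fun n hn q hq => by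
    rw [S.P_eq_bot hN hn] at hq; exact (Submodule.mem_bot k).1 hq
  have hQc : ∀ i, ∀ q ∈ S.P (i + 2), x * q = q * x := by
    suffices h : ∀ m i, N ≤ i + m → ∀ q ∈ S.P (i + 2), x * q = q * x from fun i => h N i (by omega)
    intro m
    induction m with
    | zero => intro i hi q hq; rw [hzero _ (by omega) q hq, mul_zero, zero_mul]
    | succ m ih =>
      intro i hi q hq
      obtain ⟨_, h1, t, ht, rfl⟩ := Submodule.mem_sup.1 (hlayer i hq)
      obtain ⟨r, rfl⟩ := Submodule.mem_span_singleton.1 h1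
      rw [mul_add, add_mul, ih (i + 1) (by omega) t ht, mul_smul_comm, smul_mul_assoc,
        ← pow_succ', ← pow_succ]
  have hkill : ∀ i, ∀ q ∈ S.P (i + 2), x * q = 0 → ∀ c ∈ S.P 1, q * c = 0 := by
    suffices h : ∀ m i, N ≤ i + m → ∀ q ∈ S.P (i + 2), x * q = 0 → ∀ c ∈ S.P 1, q * c = 0 from
      fun i => h N i (by omega)
    intro m
    induction m with
    | zero => intro i hi q hq _ c _; rw [hzero _ (by omega) q hq, zero_mul]
    | succ m ih =>
      intro i hi q hq hxq c hc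
      obtain ⟨_, h1, t, ht, rfl⟩ := Submodule.mem_sup.1 (hlayer i hq)
      obtain ⟨r, rfl⟩ := Submodule.mem_span_singleton.1 h1
      by_cases hr : r = 0
      · rw [hr, zero_smul, zero_add] at hxq ⊢
        exact ih (i + 1) (by omega) t ht hxq c hc
      · have hmem : x ^ (i + 3) ∈ S.P (i + 4) := by
          rw [mul_add, mul_smul_comm, ← pow_succ', add_eq_zero_iff_eq_neg] at hxq
          have h' := S.mul_mem_P hx ht
          rw [show 1 + (i + 3) = i + 4 by omega] at h'
          have h'' := (S.P (i + 4)).smul_mem r⁻¹ ((S.P (i + 4)).neg_mem h')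
          rwa [← hxq, smul_smul, inv_mul_cancel₀ hr, one_smul] at h''
        have h0 : S.P (i + 3) = ⊥ := S.P_eq_bot_of_le (by omega) ((hlayer (i + 1)).trans (sup_le
          ((Submodule.span_singleton_le_iff_mem _ _).2 hmem) le_rfl))
        have h' := S.mul_mem_P hq hc
        rwa [show i + 2 + 1 = i + 3 by omega, h0, Submodule.mem_bot] at h'
  have hfin : ∀ u v, u ∈ S.P 1 → v ∈ S.P 1 → x * (u * v - v * u) = 0 → u * v = v * u := by
    intro u v hu hv h
    have hmem : u * v - v * u ∈ S.P 2 := S.K_le (S.comm_mem_K u v)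
    exact sub_eq_zero.1 (S.eq_zero_of_socle
      (fun a ha => hkill 0 _ hmem h a (S.mem_one ha)) (S.τ_comm u v))
  have hxc : ∀ y ∈ S.P 1, x * y = y * x := by
    intro y hy
    refine hfin x y hx hy ?_
    rw [mul_sub, hQc 0 (x * y) (S.mul_mem_P (i := 1) (j := 1) hx hy), mul_assoc, sub_self]
  have hJ2c : ∀ i, ∀ q ∈ S.P (i + 2), ∀ y ∈ S.P 1, q * y = y * q := by
    suffices h : ∀ m i, N ≤ i + m → ∀ q ∈ S.P (i + 2), ∀ y ∈ S.P 1, q * y = y * q from
      fun i => h N i (by omega)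
    intro m
    induction m with
    | zero => intro i hi q hq y _; rw [hzero _ (by omega) q hq, mul_zero, zero_mul]
    | succ m ih =>
      intro i hi q hq y hy
      obtain ⟨_, h1, t, ht, rfl⟩ := Submodule.mem_sup.1 (hlayer i hq)
      obtain ⟨r, rfl⟩ := Submodule.mem_span_singleton.1 h1
      rw [add_mul, mul_add, ih (i + 1) (by omega) t ht y hy, smul_mul_assoc, mul_smul_comm,
        (Commute.pow_left (hxc y hy) (i + 2)).eq]
  intro a b
  rw [← sub_eq_zero, S.comm_sub a b, sub_eq_zero]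
  have hy := S.mem_one (S.sub_mem_J a)
  have hz := S.mem_one (S.sub_mem_J b)
  generalize a - algebraMap k A (S.φ a) = y at hy ⊢
  generalize b - algebraMap k A (S.φ b) = z at hz ⊢
  refine hfin y z hy hz ?_
  rw [mul_sub, sub_eq_zero, ← mul_assoc, ← mul_assoc,
    hJ2c 0 _ (S.mul_mem_P (i := 1) (j := 1) hx hy) z hz, ← mul_assoc z x y, ← hxc z hz]

end Data

end CfsgLib.LocalSym5
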