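import Cfsg.Agent.Lib.LocalSym5.Kill

/-!
# The span of the commutators modulo higher powers
-/

set_option autoImplicit false
set_option linter.unusedSectionVars false

namespace CfsgLib.LocalSym5

open Module

variable {k A : Type*} [Field k] [Ring A] [Algebra k A]

/-- The commutator as a bilinear map. -/
def cm (k A : Type*) [Field k] [Ring A] [Algebra k A] : A →ₗ[k] A →ₗ[k] A :=
  LinearMap.mul k A - (LinearMap.mul k A).flip

theorem cm_apply (a b : A) : cm k A a b = a * b - b * a := rfl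

namespace Data

variable (S : Data k A)

/-- The commutators of a power with the radical. -/
def C (i : ℕ) : Submodule k A := Submodule.map₂ (cm k A) (S.P i) (S.P 1)

theorem comm_mem_C {i : ℕ} {a z : A} (ha : a ∈ S.P i) (hz : z ∈ S.P 1) :
    a * z - z * a ∈ S.C i := Submodule.apply_mem_map₂ (cm k A) ha hz

theorem comm_mem_C' {i : ℕ} {a z : A} (ha : a ∈ S.P i) (hz : z ∈ S.P 1) :
    z * a - a * z ∈ S.C i := by
  rw [← neg_sub]; exact (S.C i).neg_mem (S.comm_mem_C ha hz)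

theorem C_le (i : ℕ) : S.C i ≤ S.P (i + 1) :=
  Submodule.map₂_le.2 fun a ha z hz =>
    (S.P (i + 1)).sub_mem (S.mul_mem_P ha hz) (add_comm 1 i ▸ S.mul_mem_P hz ha)

theorem K_le_span {s : Set A} (hX : S.P 1 ≤ Submodule.span k s ⊔ S.P 2) {T : Submodule k A}
    (hT : ∀ p ∈ s, ∀ q ∈ s, p * q - q * p ∈ T) : S.K ≤ T ⊔ S.C 2 := by
  have hT' : Submodule.map₂ (cm k A) (Submodule.span k s) (Submodule.span k s) ≤ T := by
    rw [Submodule.map₂_span_span]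
    refine Submodule.span_le.2 ?_
    rintro _ ⟨p, hp, q, hq, rfl⟩
    exact hT p hp q hq
  refine Submodule.span_le.2 ?_
  rintro _ ⟨a, b, rfl⟩
  rw [SetLike.mem_coe, S.comm_sub a b]
  have ha : a - algebraMap k A (S.φ a) ∈ S.P 1 := by rw [S.P_one]; exact S.sub_mem_J a
  have hb : b - algebraMap k A (S.φ b) ∈ S.P 1 := by rw [S.P_one]; exact S.sub_mem_J b
  generalize a - algebraMap k A (S.φ a) = p at ha ⊢
  generalize b - algebraMap k A (S.φ b) = q at hb ⊢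
  obtain ⟨p₁, hp₁, p₂, hp₂, rfl⟩ := Submodule.mem_sup.1 (hX ha)
  obtain ⟨q₁, hq₁, q₂, hq₂, rfl⟩ := Submodule.mem_sup.1 (hX hb)
  have hp1 : p₁ ∈ S.P 1 := by
    simpa using (S.P 1).sub_mem ha (S.P_succ_le (n := 1) le_rfl hp₂)
  rw [show (p₁ + p₂) * (q₁ + q₂) - (q₁ + q₂) * (p₁ + p₂)
    = (p₁ * q₁ - q₁ * p₁) + ((p₁ * q₂ - q₂ * p₁) + (p₂ * (q₁ + q₂) - (q₁ + q₂) * p₂)) by
    simp only [add_mul, mul_add]; abel]
  exact Submodule.add_mem_sup (hT' (Submodule.apply_mem_map₂ (cm k A) hp₁ hq₁))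
    ((S.C 2).add_mem (S.comm_mem_C' hq₂ hp1) (S.comm_mem_C hp₂ hb))

end Data

variable [FiniteDimensional k A] (L : Lay k A)

namespace Lay

/-- The commutator of the first layer. -/
noncomputable def γ : L.Q 1 →ₗ[k] L.Q 1 →ₗ[k] L.Q 2 := L.mulQ 1 1 2 - (L.mulQ 1 1 2).flip

theorem γ_apply (u v : L.Q 1) : L.γ u v = L.mulQ 1 1 2 u v - L.mulQ 1 1 2 v u := rfl

theorem γ_self (u : L.Q 1) : L.γ u u = 0 := by rw [γ_apply, sub_self]

theorem γ_swap (u v : L.Q 1) : L.γ v u = -L.γ u v := by rw [γ_apply, γ_apply, neg_sub]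

theorem γ_pr {p q : A} (hp : p ∈ L.P 1) (hq : q ∈ L.P 1) :
    L.γ (L.pr 1 p) (L.pr 1 q) = L.pr 2 (p * q - q * p) := by
  rw [γ_apply, map_sub, L.mulQ_eq hp hq, L.mulQ_eq hq hp]

theorem span_pr_top {n : ℕ} {X : Submodule k A} (hX : L.P n ≤ X ⊔ L.Ann n) :
    X.map (L.pr n) = ⊤ := by
  refine eq_top_iff.2 fun q _ => ?_
  obtain ⟨w, hw, rfl⟩ := L.mem_span_range_pr q
  obtain ⟨a, ha, b, hb, rfl⟩ := Submodule.mem_sup.1 (hX hw)
  exact ⟨a, ha, by rw [map_add, L.pr_Ann hb, add_zero]⟩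

variable {L} {x : A} (hx : L.Gen x)

theorem mulQ_eq_e (u v : L.Q 1) : L.mulQ 1 1 2 u v = e hx 2 (tμ hx u v) := by
  obtain ⟨p, hp, rfl⟩ := L.mem_span_range_pr u
  obtain ⟨q, hq, rfl⟩ := L.mem_span_range_pr v
  rw [tμ_pr hx hp hq, ← L.mulQ_eq hp hq]
  exact pr_θ hx (by omega) (by have := L.four; omega) _

theorem γ_x (v : L.Q 1) : L.γ v (L.pr 1 x) = e hx 2 (tσ hx v - v) := by
  rw [γ_apply, mulQ_eq_e hx, mulQ_eq_e hx, map_sub, ← tσ_apply hx]
  congr 2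
  exact (twist hx).x_mul v

/-- A functional on the first layer killing the coordinates of `P n` cannot exist. -/
theorem absurd_of_kill [Nontrivial (L.Q 1)] {n : ℕ} (h1 : 1 ≤ n) (hn : n + 1 ≤ L.N)
    (h : ∀ z ∈ L.P n, (twist hx).lam (θ hx n z) = 0) : False := by
  obtain ⟨u, hu⟩ := exists_ne (0 : L.Q 1)
  obtain ⟨v, hv⟩ := (twist hx).lam_mul_ne hu
  refine hv ?_
  obtain ⟨w, hw, hwe⟩ := L.mem_span_range_pr ((twist hx).mul u v)
  have hmem := L.mul_mem_P (pow_mem hx (n - 1)) hw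
  rw [Nat.sub_add_cancel h1] at hmem
  have h' := h _ hmem
  rwa [θ_pow hx h1 hn hw, hwe] at h'

theorem kill_C {i : ℕ} (hi : 1 ≤ i) (hiN : i + 2 ≤ L.N)
    (h : ∀ u ζ : L.Q 1, (twist hx).lam ((twist hx).mul (tσ hx u) ζ)
      = (twist hx).lam ((twist hx).mul ((tσ hx ^ i) ζ) u)) :
    ∀ r ∈ L.C i, (twist hx).lam (θ hx (i + 1) r) = 0 := by
  intro r hr
  have : L.C i ≤ LinearMap.ker ((twist hx).lam.comp (θ hx (i + 1))) := by
    refine Submodule.map₂_le.2 fun a ha z hz => ?_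
    rw [LinearMap.mem_ker, LinearMap.comp_apply, cm_apply, θ_comm hx hi hiN ha hz, map_sub, h,
      sub_self]
  exact this hr

end Lay

end CfsgLib.LocalSym5
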