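import Cfsg.Agent.Lib.FreeInertial.Section
import Cfsg.Agent.S4539

/-!
# Blocks with abelian defect group of order eight and one Brauer character
-/

set_option autoImplicit false
set_option linter.unusedSectionVars false
set_option linter.style.haveILetI false

namespace CfsgLib.LocalSym5

open Cfsg CfsgLib.BrauerPairs CfsgLib.BPStar CfsgLib.FreeInertial
open scoped Classical

universe u

section Orbits

variable {G : Type u} [Group G] [Fintype G] {T P : Subgroup G}

/-- The orbit of an element. -/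
noncomputable def orb (T P : Subgroup G) (x : P) : Finset P :=
  Finset.univ.filter fun y : P => ∃ t ∈ T, t * (x : G) * t⁻¹ = y

theorem mem_orb {x y : P} : y ∈ orb T P x ↔ ∃ t ∈ T, t * (x : G) * t⁻¹ = y := by
  simp [orb]

theorem orb_self (x : P) : x ∈ orb T P x := mem_orb.2 ⟨1, T.one_mem, by simp⟩

theorem orb_disjoint {x y : P} (h : y ∉ orb T P x) : Disjoint (orb T P x) (orb T P y) := by
  refine Finset.disjoint_left.2 fun z hzx hzy => h ?_
  obtain ⟨t, ht, htz⟩ := mem_orb.1 hzx
  obtain ⟨s, hs, hsz⟩ := mem_orb.1 hzy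
  refine mem_orb.2 ⟨s⁻¹ * t, T.mul_mem (T.inv_mem hs) ht, ?_⟩
  rw [show s⁻¹ * t * (x : G) * (s⁻¹ * t)⁻¹ = s⁻¹ * (t * x * t⁻¹) * s by group, htz, ← hsz]
  group

theorem orbCard_odd (hT : T ≤ Subgroup.normalizer (P : Set G)) (hodd : ¬ 2 ∣ (cz P).relIndex T)
    (x : P) : Odd (orbCard T P (x : G)) := by
  have hcard : (orb T P x).card = orbCard T P (x : G) := rfl
  letI : MulAction T G := MulAction.compHom G ((MulAut.conj : G →* MulAut G).comp T.subtype)
  have hsmul : ∀ (t : T) (g : G), t • g = (t : G) * g * (t : G)⁻¹ := fun t g => rfl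
  have hle : (cz P).subgroupOf T ≤ MulAction.stabilizer T (x : G) := fun t ht => by
    rw [MulAction.mem_stabilizer_iff, hsmul, mul_inv_eq_iff_eq_mul]
    exact (mem_cz.1 (Subgroup.mem_subgroupOf.1 ht) x x.2).symm
  have horb : MulAction.orbit T (x : G) = Subtype.val '' (orb T P x : Set P) := by
    ext g
    constructor
    · rintro ⟨t, rfl⟩
      exact ⟨⟨_, (Subgroup.mem_normalizer_iff.1 (hT t.2) _).1 x.2⟩,
        mem_orb.2 ⟨t, t.2, rfl⟩, (hsmul t _).symm⟩
    · rintro ⟨y, hy, rfl⟩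
      obtain ⟨t, ht, hty⟩ := mem_orb.1 hy
      exact ⟨⟨t, ht⟩, (hsmul _ _).trans hty⟩
  have hindex : (MulAction.stabilizer T (x : G)).index = orbCard T P (x : G) := by
    rw [MulAction.index_stabilizer, horb, Set.ncard_image_of_injective _ Subtype.val_injective,
      Set.ncard_coe_finset, hcard]
  rw [← hindex, ← Nat.not_even_iff_odd, even_iff_two_dvd]
  exact fun h => hodd (h.trans (Subgroup.index_dvd_of_le hle))

/-- The fixed points. -/
def fixPts (T P : Subgroup G) : Subgroup P where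
  carrier := {x | ∀ t ∈ T, t * (x : G) * t⁻¹ = x}
  one_mem' := fun t _ => by simp
  mul_mem' := fun {a b} ha hb t ht => by
    rw [Subgroup.coe_mul, ← conj_mul, ha t ht, hb t ht]
  inv_mem' := fun {a} ha t ht => by rw [Subgroup.coe_inv, ← conj_inv, ha t ht]

theorem mem_fixPts {x : P} : x ∈ fixPts T P ↔ ∀ t ∈ T, t * (x : G) * t⁻¹ = x := Iff.rfl

theorem orb_not_fixed {x y : P} (hx : x ∉ fixPts T P) (hy : y ∈ orb T P x) : y ∉ fixPts T P := by
  obtain ⟨t, ht, hty⟩ := mem_orb.1 hy
  intro hfy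
  apply hx
  have h := hfy t⁻¹ (T.inv_mem ht)
  rw [← hty] at h
  have : (x : G) = y := by rw [← hty, ← h]; group
  rwa [show x = y from Subtype.ext this]

theorem three_le_orbCard (hT : T ≤ Subgroup.normalizer (P : Set G))
    (hodd : ¬ 2 ∣ (cz P).relIndex T) {x : P} (hx : x ∉ fixPts T P) :
    3 ≤ orbCard T P (x : G) := by
  obtain ⟨m, hm⟩ := orbCard_odd hT hodd x
  rcases Nat.eq_zero_or_pos m with rfl | hm0
  · exfalso
    apply hx
    intro t ht
    obtain ⟨z, hz⟩ := Finset.card_eq_one.1 (show (orb T P x).card = 1 from hm.trans (by simp))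
    have hxz := orb_self (T := T) x
    rw [hz, Finset.mem_singleton] at hxz
    have htP : t * (x : G) * t⁻¹ ∈ P := (Subgroup.mem_normalizer_iff.1 (hT ht) _).1 x.2
    have h2 : (⟨_, htP⟩ : P) ∈ orb T P x := mem_orb.2 ⟨t, ht, rfl⟩
    rw [hz, Finset.mem_singleton, ← hxz] at h2
    exact congrArg Subtype.val h2
  · omega

/-- The shapes of an action of odd index on eight points fixing the identity. -/
theorem orbit_shape (hT : T ≤ Subgroup.normalizer (P : Set G))
    (hodd : ¬ 2 ∣ (cz P).relIndex T) (h8 : Nat.card P = 8) :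
    (∀ x : P, x ∈ fixPts T P) ∨
      (Nat.card (fixPts T P) = 2 ∧ ∀ x : P, x ∉ fixPts T P → orbCard T P (x : G) = 3) ∨
      (Nat.card (fixPts T P) = 1 ∧ ∀ x : P, x ∉ fixPts T P → orbCard T P (x : G) = 7) := by
  set S : Finset P := Finset.univ.filter fun x => x ∉ fixPts T P with hS
  have hsub : ∀ x ∈ S, orb T P x ⊆ S := fun x hx y hy => Finset.mem_filter.2
    ⟨Finset.mem_univ _, orb_not_fixed (Finset.mem_filter.1 hx).2 hy⟩
  have h3 : ∀ x ∈ S, 3 ≤ (orb T P x).card ∧ Odd (orb T P x).card := fun x hx =>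
    ⟨three_le_orbCard hT hodd (Finset.mem_filter.1 hx).2, orbCard_odd hT hodd x⟩
  have hcard : S.card + Nat.card (fixPts T P) = 8 := by
    rw [← h8, Nat.card_eq_fintype_card, Nat.card_eq_fintype_card,
      Fintype.card_subtype fun x : P => x ∈ fixPts T P, hS, add_comm,
      Finset.card_filter_add_card_filter_not, Finset.card_univ]
  have hFdvd : Nat.card (fixPts T P) ∣ 2 ^ 3 := by
    rw [show 2 ^ 3 = Nat.card P by rw [h8]; norm_num]
    exact Subgroup.card_subgroup_dvd_card _
  have key : ∀ x ∈ S, ∀ y ∈ S, y ∉ orb T P x →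
      (orb T P x).card + (orb T P y).card ≤ S.card ∧
      ((orb T P x).card + (orb T P y).card < S.card → ∃ z ∈ S,
        (orb T P x).card + (orb T P y).card + (orb T P z).card ≤ S.card) := by
    intro x hx y hy hyx
    have hu := Finset.card_union_of_disjoint (orb_disjoint (T := T) hyx)
    have hsu : orb T P x ∪ orb T P y ⊆ S := Finset.union_subset (hsub x hx) (hsub y hy)
    refine ⟨hu ▸ Finset.card_le_card hsu, fun hlt => ?_⟩
    obtain ⟨z, hz, hzn⟩ := Finset.exists_of_ssubset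
      (Finset.ssubset_iff_subset_ne.2 ⟨hsu, fun h => by rw [← hu, h] at hlt; omega⟩)
    rw [Finset.mem_union, not_or] at hzn
    refine ⟨z, hz, ?_⟩
    rw [← hu, ← Finset.card_union_of_disjoint (Finset.disjoint_union_left.2
      ⟨orb_disjoint hzn.1, orb_disjoint hzn.2⟩)]
    exact Finset.card_le_card (Finset.union_subset hsu (hsub z hz))
  have hsingle : ∀ x ∈ S, (orb T P x).card ≠ S.card → ∃ y ∈ S, y ∉ orb T P x := fun x hx hne => by
    obtain ⟨y, hy, hyn⟩ := Finset.exists_of_ssubset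
      (Finset.ssubset_iff_subset_ne.2 ⟨hsub x hx, fun h => hne (by rw [h])⟩)
    exact ⟨y, hy, hyn⟩
  obtain ⟨j, hj, hjF⟩ := (Nat.dvd_prime_pow Nat.prime_two).1 hFdvd
  interval_cases j
  · -- no fixed point
    simp only [Nat.reducePow] at hjF
    refine Or.inr (Or.inr ⟨hjF, fun x hx => ?_⟩)
    have hxS : x ∈ S := Finset.mem_filter.2 ⟨Finset.mem_univ _, hx⟩
    obtain ⟨h1, m, hm⟩ := h3 x hxS
    have hle := Finset.card_le_card (hsub x hxS)
    show (orb T P x).card = 7
    by_contra hne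
    obtain ⟨y, hy, hyx⟩ := hsingle x hxS (by omega)
    obtain ⟨h2, m', hm'⟩ := h3 y hy
    obtain ⟨hxy, hz⟩ := key x hxS y hy hyx
    obtain ⟨z, hzS, hxyz⟩ := hz (by omega)
    have := (h3 z hzS).1
    omega
  · simp only [Nat.reducePow] at hjF
    refine Or.inr (Or.inl ⟨hjF, fun x hx => ?_⟩)
    have hxS : x ∈ S := Finset.mem_filter.2 ⟨Finset.mem_univ _, hx⟩
    obtain ⟨h1, m, hm⟩ := h3 x hxS
    have hle := Finset.card_le_card (hsub x hxS)
    show (orb T P x).card = 3
    by_contra hne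
    obtain ⟨y, hy, hyx⟩ := hsingle x hxS (by omega)
    obtain ⟨h2, m', hm'⟩ := h3 y hy
    have := (key x hxS y hy hyx).1
    omega
  · exfalso
    obtain ⟨x, hx⟩ := Finset.card_pos.1 (show 0 < S.card by simp only [Nat.reducePow] at hjF; omega)
    obtain ⟨h1, m, hm⟩ := h3 x hx
    have hle := Finset.card_le_card (hsub x hx)
    simp only [Nat.reducePow] at hjF
    obtain ⟨y, hy, hyx⟩ := hsingle x hx (by omega)
    obtain ⟨h2, -⟩ := h3 y hy
    have := (key x hx y hy hyx).1
    omega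
  · refine Or.inl fun x => ?_
    by_contra hx
    have hxS : x ∈ S := Finset.mem_filter.2 ⟨Finset.mem_univ _, hx⟩
    have := Finset.card_pos.2 ⟨x, hxS⟩
    simp only [Nat.reducePow] at hjF
    omega

/-- An element of the stabiliser centralising a subgroup of index at most two centralises. -/
theorem mem_cz_of_fix (hT : T ≤ Subgroup.normalizer (P : Set G))
    (hodd : ¬ 2 ∣ (cz P).relIndex T) (h8 : Nat.card P = 8) (hF : Nat.card (fixPts T P) = 2)
    {x : P} (hx : x ∉ fixPts T P) {t : G} (ht : t ∈ T) (htx : t * (x : G) * t⁻¹ = x) :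
    t ∈ cz P := by
  set U := fixPts (Subgroup.zpowers t) P
  have hmemU : ∀ w : P, w ∈ U ↔ t * (w : G) * t⁻¹ = w := fun w => by
    refine ⟨fun h => h t (Subgroup.mem_zpowers t), fun h s hs => ?_⟩
    obtain ⟨i, rfl⟩ := Subgroup.mem_zpowers_iff.1 hs
    have hc : Commute t (w : G) := mul_inv_eq_iff_eq_mul.1 h
    rw [(hc.zpow_left i).eq, mul_inv_cancel_right]
  have hlt : fixPts T P < U := lt_of_le_of_ne (fun w hw => (hmemU w).2 (hw t ht))
    fun h => hx (h ▸ (hmemU x).2 htx)
  have hUdvd : Nat.card U ∣ 2 ^ 3 := by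
    rw [show 2 ^ 3 = Nat.card P by rw [h8]; norm_num]
    exact Subgroup.card_subgroup_dvd_card _
  have hU2 : 2 < Nat.card U := by
    rw [← hF]
    by_contra hle
    exact hlt.ne (Subgroup.eq_of_le_of_card_ge hlt.le (by omega))
  obtain ⟨j, hj, hjU⟩ := (Nat.dvd_prime_pow Nat.prime_two).1 hUdvd
  have hall : U = ⊤ ∨ U.index = 2 := by
    have h := Subgroup.card_mul_index U
    rw [h8, hjU] at h
    rw [hjU] at hU2
    interval_cases j
    · omega
    · omega
    · exact Or.inr (by norm_num at h; omega)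
    · exact Or.inl (Subgroup.eq_top_of_card_eq _ (by rw [hjU, h8]; norm_num))
  refine mem_cz.2 fun w hw => ?_
  suffices h : (⟨w, hw⟩ : P) ∈ U by
    exact (mul_inv_eq_iff_eq_mul.1 ((hmemU _).1 h)).symm
  rcases hall with h | h
  · rw [h]; trivial
  by_contra hwU
  set w' : P := ⟨w, hw⟩
  have hconj : ∀ y : P, t * (y : G) * t⁻¹ ∈ P := fun y =>
    (Subgroup.mem_normalizer_iff.1 (hT ht) _).1 y.2
  set tw : P := ⟨_, hconj w'⟩
  have htw : tw ∉ U := fun h' => hwU (by
    rw [hmemU] at h' ⊢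
    have h'' : t * (t * w * t⁻¹) * t⁻¹ = t * w * t⁻¹ := h'
    exact mul_left_cancel (mul_right_cancel h''))
  set f := w'⁻¹ * tw with hfdef
  have hfU : f ∈ U := by
    rw [hfdef, Subgroup.mul_mem_iff_of_index_two h, U.inv_mem_iff]
    exact ⟨fun h' => absurd h' hwU, fun h' => absurd h' htw⟩
  have hft : t * (f : G) * t⁻¹ = f := (hmemU f).1 hfU
  have hwf : t * w * t⁻¹ = w * (f : G) := by simp [f, w', tw]
  have hit : ∀ i : ℕ, t ^ i * w * (t ^ i)⁻¹ = w * (f : G) ^ i := by
    intro i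
    induction i with
    | zero => simp
    | succ i ih =>
      rw [pow_succ', show t * t ^ i * w * (t * t ^ i)⁻¹ = t * (t ^ i * w * (t ^ i)⁻¹) * t⁻¹ by group,
        ih, show t * (w * (f : G) ^ i) * t⁻¹ = t * w * t⁻¹ * (t * (f : G) ^ i * t⁻¹) by group,
        ← conj_pow, hft, hwf, mul_assoc, ← pow_succ']
  have : ((cz P).subgroupOf T).Normal := ⟨fun z hz g => by
    rw [Subgroup.mem_subgroupOf] at hz ⊢
    exact (Subgroup.mem_normalizer_iff.1 (normalizer_le_normalizer_cz P (hT g.2)) _).1 hz⟩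
  have hpow := Subgroup.pow_index_mem ((cz P).subgroupOf T) (⟨t, ht⟩ : T)
  rw [Subgroup.mem_subgroupOf, SubmonoidClass.coe_pow] at hpow
  set n := ((cz P).subgroupOf T).index with hn
  have h1 : (f : G) ^ n = 1 := by
    have h2 := hit n
    rw [← mem_cz.1 hpow w hw, mul_inv_cancel_right] at h2
    exact mul_eq_left.1 h2.symm
  have hf1 : f = 1 := by
    have d1 : orderOf f ∣ n := orderOf_dvd_of_pow_eq_one (Subtype.ext (by simpa using h1))
    have d2 : orderOf f ∣ 2 ^ 3 := by
      rw [show 2 ^ 3 = Nat.card P by rw [h8]; norm_num]; exact orderOf_dvd_natCard f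
    have hco : Nat.Coprime n (2 ^ 3) :=
      ((Nat.prime_two.coprime_iff_not_dvd.2 hodd).symm).pow_right 3
    exact orderOf_eq_one_iff.1 (Nat.eq_one_of_dvd_coprimes hco d1 d2)
  exact hwU ((hmemU w').2 (by rw [show (w' : G) = w from rfl, hwf, hf1]; simp))

end Orbits

section Blocks

variable {G : Type u} [Group G] [Fintype G] {M : Ideal AlgInt} [M.IsMaximal]
variable {hM : IsPModular 2 M} {B : Set (IrrCharacter G)} {P : Subgroup G}
variable {e : Set (IrrCharacter (Subgroup.centralizer (P : Set G)))} (c : AbCtx hM B P e)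
include c

local notation "𝐓" => pairStab P (eA hM (cz P) e)

theorem rk_secNil {x : P} (hx : SecNil hM P e x) :
    rkC hM P (eA hM (cz P) e) (cz (Subgroup.zpowers (x : G))) = 1 := by
  obtain ⟨hb, -, hcov, -⟩ := bx_spec c x
  rw [rkC_eq c.pgroup c.block.ne_zero (c.le_cz_zpowers x) hb hcov]
  obtain ⟨φ, -, -, -, -, h⟩ := exists_sec_data c hx
  exact h

theorem rk_fixed {x : P} (hx : x ∈ fixPts 𝐓 P) :
    rkC hM P (eA hM (cz P) e) (cz (Subgroup.zpowers (x : G))) = blockRank 2 B := by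
  rw [c.rkC_fixed hx, c.rkC_top]

theorem card_eq : (Nat.card B : ℂ) = ∑ x : P,
    (rkC hM P (eA hM (cz P) e) (cz (Subgroup.zpowers (x : G))) : ℂ) /
      (orbCard 𝐓 P (x : G) : ℂ) := by
  rw [card_block_eq_sum c.hmax (hM := hM)]
  exact Finset.sum_congr rfl fun x _ => c.subWeight_eq x

theorem central_of_all_fixed (h : ∀ x : P, x ∈ fixPts 𝐓 P) : Central hM P e :=
  fun t ht => mem_cz.2 fun w hw => (mul_inv_eq_iff_eq_mul.1 (h ⟨w, hw⟩ t ht)).symm

/-- With two fixed points. -/
theorem card_of_two (h8 : Nat.card P = 8) (hF : Nat.card (fixPts 𝐓 P) = 2)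
    (h3 : ∀ x : P, x ∉ fixPts 𝐓 P → orbCard 𝐓 P (x : G) = 3) :
    Nat.card B = 2 * blockRank 2 B + 2 ∧ ∃ x : P, x ∉ fixPts 𝐓 P ∧ SecNil hM P e x := by
  have hT : 𝐓 ≤ Subgroup.normalizer (P : Set G) := fun g hg => hg.1
  have hnil : ∀ x : P, x ∉ fixPts 𝐓 P → SecNil hM P e x := fun x hx t ht htx =>
    mem_cz_of_fix hT c.not_dvd_relIndex h8 hF hx ht htx
  have hFc : (Finset.univ.filter fun x : P => x ∈ fixPts 𝐓 P).card = 2 := by
    rw [← Fintype.card_subtype, ← Nat.card_eq_fintype_card]; exact hF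
  have hSc : (Finset.univ.filter fun x : P => x ∉ fixPts 𝐓 P).card = 6 := by
    have h := Finset.card_filter_add_card_filter_not (s := (Finset.univ : Finset P))
      (fun x : P => x ∈ fixPts 𝐓 P)
    rw [hFc, Finset.card_univ, ← Nat.card_eq_fintype_card, h8] at h
    omega
  refine ⟨?_, ?_⟩
  · have h := card_eq c
    have hA : ∀ x ∈ Finset.univ.filter (fun x : P => x ∈ fixPts 𝐓 P),
        (rkC hM P (eA hM (cz P) e) (cz (Subgroup.zpowers (x : G))) : ℂ) /
          (orbCard 𝐓 P (x : G) : ℂ) = (blockRank 2 B : ℂ) := fun x hx => by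
      rw [rk_fixed c (Finset.mem_filter.1 hx).2, orbCard_fixed (Finset.mem_filter.1 hx).2,
        Nat.cast_one, div_one]
    have hB' : ∀ x ∈ Finset.univ.filter (fun x : P => x ∉ fixPts 𝐓 P),
        (rkC hM P (eA hM (cz P) e) (cz (Subgroup.zpowers (x : G))) : ℂ) /
          (orbCard 𝐓 P (x : G) : ℂ) = (1 / 3 : ℂ) := fun x hx => by
      rw [rk_secNil c (hnil x (Finset.mem_filter.1 hx).2), h3 x (Finset.mem_filter.1 hx).2]
      norm_num
    rw [← Finset.sum_filter_add_sum_filter_not Finset.univ (fun x : P => x ∈ fixPts 𝐓 P),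
      Finset.sum_congr rfl hA, Finset.sum_congr rfl hB', Finset.sum_const, Finset.sum_const,
      hFc, hSc] at h
    have h' : (Nat.card B : ℂ) = ((2 * blockRank 2 B + 2 : ℕ) : ℂ) := by
      rw [h]; push_cast; simp only [nsmul_eq_mul]; push_cast; ring
    exact_mod_cast h'
  · obtain ⟨x, hx⟩ := Finset.card_pos.1 (show 0 <
      (Finset.univ.filter fun x : P => x ∉ fixPts 𝐓 P).card by omega)
    exact ⟨x, (Finset.mem_filter.1 hx).2, hnil x (Finset.mem_filter.1 hx).2⟩

/-- A fixed point other than one bounds the rank. -/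
theorem rank_le_three (h8 : Nat.card P = 8) {x : P} (hx1 : x ≠ 1) (hx : x ∈ fixPts 𝐓 P) :
    blockRank 2 B ≤ 3 := by
  have hT : 𝐓 ≤ Subgroup.normalizer (P : Set G) := fun g hg => hg.1
  rcases orbit_shape hT c.not_dvd_relIndex h8 with h | ⟨hF, h3⟩ | ⟨hF, -⟩
  · obtain ⟨-, -, -, -, -, hl⟩ := exists_central_data c (central_of_all_fixed c h)
    omega
  · obtain ⟨hk, y, hy, hnil⟩ := card_of_two c h8 hF h3
    obtain ⟨f, hf, -, -, hfI, -, hfD, hov⟩ := CyclicDefectBound.exists_local_block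
      (Q := Subgroup.zpowers (y : G)) (K := Subgroup.centralizer ({(y : G)} : Set G))
      hM c.isPBlockB c.defect c.comm c.block c.cover
      (Subgroup.zpowers_le.2 y.2) (CyclicDefectBound.centralizer_singleton_eq _)
    have hlf : blockRank 2 f = 1 := by
      rw [← rkC_eq c.pgroup c.block.ne_zero (fun a ha => by
        rw [CyclicDefectBound.centralizer_singleton_eq]; exact c.le_cz_zpowers y ha) hf hov.cover,
        CyclicDefectBound.centralizer_singleton_eq]
      exact rk_secNil c hnil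
    have h := Cfsg.Agent.S4539.result 2 M hM B c.isPBlockB P c.defect (y : G) y.2
      (fun d hd => (mem_cz.1 (c.comm y.2) d hd)) f hfI hfD (by omega)
    rw [← BlockCover.natCard_defect hM c.isPBlockB c.defect, h8] at h
    omega
  · exfalso
    have hmem : ∀ z : fixPts 𝐓 P, z = 1 := by
      have := (Nat.card_eq_one_iff_unique.1 hF).1
      exact fun z => Subsingleton.elim _ _
    exact hx1 (congrArg Subtype.val (hmem ⟨x, hx⟩))

/-- An abelian defect group of order eight and one Brauer character do not give five characters. -/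
theorem card_ne_five (h8 : Nat.card P = 8) (hl : blockRank 2 B = 1) : Nat.card B ≠ 5 := by
  intro hk
  have hT : 𝐓 ≤ Subgroup.normalizer (P : Set G) := fun g hg => hg.1
  rcases orbit_shape hT c.not_dvd_relIndex h8 with h | ⟨hF, h3⟩ | ⟨hF, h7⟩
  · obtain ⟨-, -, -, -, hc, -⟩ := exists_central_data c (central_of_all_fixed c h)
    omega
  · obtain ⟨h, -⟩ := card_of_two c h8 hF h3
    omega
  · have hsub := (Nat.card_eq_one_iff_unique.1 hF).1
    have hone : ∀ x : P, x ∈ fixPts 𝐓 P ↔ x = 1 := fun x =>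
      ⟨fun hx => congrArg Subtype.val (Subsingleton.elim (⟨x, hx⟩ : fixPts 𝐓 P) 1),
        fun hx => hx ▸ (fixPts 𝐓 P).one_mem⟩
    have hr : ∀ x : P, x ≠ 1 →
        rkC hM P (eA hM (cz P) e) (cz (Subgroup.zpowers (x : G))) ≤ 3 := by
      intro x hx
      obtain ⟨β, e', c', he', hcov⟩ := c.exists_inside x (H := cz (Subgroup.zpowers (x : G))) rfl
      have hPH := c.le_cz_zpowers x
      rw [rkC_eq c.pgroup c.block.ne_zero hPH c'.isPBlockB hcov]
      refine rank_le_three c' (x := ⟨⟨x, hPH x.2⟩, x.2⟩) ?_ ?_ ?_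
      · rw [Nat.card_congr (Subgroup.subgroupOfEquivOfLe hPH).toEquiv, h8]
      · exact fun h => hx (Subtype.ext (congrArg (fun z => ((z : cz (Subgroup.zpowers (x : G))) : G))
          (congrArg Subtype.val h)))
      · intro t _
        apply Subtype.ext
        show (t : G) * x * (t : G)⁻¹ = x
        rw [← mem_cz.1 t.2 x (Subgroup.mem_zpowers _), mul_inv_cancel_right]
    have h := card_eq c
    rw [← Finset.add_sum_erase _ _ (Finset.mem_univ (1 : P)),
      rk_fixed c (fixPts 𝐓 P).one_mem, orbCard_fixed (v := (1 : P)) (fixPts 𝐓 P).one_mem, hl,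
      Nat.cast_one, div_one, Finset.sum_congr rfl
        (g := fun x : P =>
          (rkC hM P (eA hM (cz P) e) (cz (Subgroup.zpowers (x : G))) : ℂ) / 7) (fun x hx => by
        rw [h7 x fun hf => (Finset.mem_erase.1 hx).1 ((hone x).1 hf)]
        norm_num),
      ← Finset.sum_div, hk] at h
    push_cast at h
    field_simp at h
    have hN : 5 * 7 = 7 + ∑ x ∈ (Finset.univ : Finset P).erase 1,
        rkC hM P (eA hM (cz P) e) (cz (Subgroup.zpowers (x : G))) := by
      rw [← Nat.cast_inj (R := ℂ)]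
      push_cast
      linear_combination h
    have hle := Finset.sum_le_sum (s := (Finset.univ : Finset P).erase 1)
      fun x hx => hr x (Finset.mem_erase.1 hx).1
    rw [Finset.sum_const, Finset.card_erase_of_mem (Finset.mem_univ _), Finset.card_univ,
      ← Nat.card_eq_fintype_card, h8, smul_eq_mul] at hle
    omega

end Blocks

end CfsgLib.LocalSym5
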