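import Cfsg.Agent.Lib.LocalSym5.Layer

/-!
# An element whose multiples fill the second layer generates all layers
-/

set_option autoImplicit false
set_option linter.unusedSectionVars false

namespace CfsgLib.LocalSym5

open Module

variable {k A : Type*} [Field k] [Ring A] [Algebra k A] [FiniteDimensional k A] (L : Lay k A)

namespace Lay

/-- The multiples of `x` fill the second layer. -/
def Gen (x : A) : Prop :=
  x ∈ L.P 1 ∧ L.P 2 ≤ (L.P 1).map (LinearMap.mulLeft k x) ⊔ L.Ann 2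

variable {L} {x : A} (hx : L.Gen x)
include hx

theorem Gen.step : ∀ {n : ℕ}, 1 ≤ n → n + 1 ≤ L.N →
    L.P (n + 1) ≤ (L.P n).map (LinearMap.mulLeft k x) ⊔ L.Ann (n + 1) := by
  intro n h1
  induction n, h1 using Nat.le_induction with
  | base => exact fun _ => hx.2
  | succ n h1 ih =>
    intro hN
    rw [Data.P, pow_succ]
    refine Submodule.mul_le.2 fun a ha b hb => ?_
    obtain ⟨_, ⟨u, hu, rfl⟩, e, he, rfl⟩ := Submodule.mem_sup.1 (ih (by omega) ha)
    have hb1 : b ∈ L.P 1 := by rw [L.P_one]; exact hb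
    rw [add_mul, LinearMap.mulLeft_apply, mul_assoc]
    exact Submodule.add_mem_sup ⟨u * b, L.mul_mem_P hu hb1, rfl⟩ (L.mul_Ann_right hN he hb1)

theorem Gen.d_succ {n : ℕ} (h1 : 1 ≤ n) (hN : n + 1 ≤ L.N) :
    L.d (n + 1) ≤ L.d n ∧
      (L.d (n + 1) = L.d n → ∀ w ∈ L.P n, x * w ∈ L.Ann (n + 1) → w ∈ L.Ann n) := by
  let m : L.P n →ₗ[k] L.P (n + 1) :=
    ((LinearMap.mulLeft k x).comp (L.P n).subtype).codRestrict (L.P (n + 1)) fun w => by
      rw [add_comm n 1]; exact L.mul_mem_P hx.1 w.2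
  let f : L.P n →ₗ[k] Dual k (L.P (L.N - (n + 1))) := (L.pair (n + 1) (L.N - (n + 1))).comp m
  have hker : LinearMap.ker (L.pair n (L.N - n)) ≤ LinearMap.ker f := fun w hw => by
    rw [LinearMap.mem_ker] at hw ⊢
    refine LinearMap.ext fun z => ?_
    have h : (w : A) ∈ L.Ann n := L.mem_Ann.2 ⟨w.2, fun y hy => LinearMap.congr_fun hw ⟨y, hy⟩⟩
    have h' := L.mul_Ann_left (m := 1) (by omega) hx.1 h
    rw [add_comm 1 n] at h'
    exact (L.mem_Ann.1 h').2 z z.2
  have hrange : LinearMap.range f = LinearMap.range (L.pair (n + 1) (L.N - (n + 1))) := by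
    refine le_antisymm (LinearMap.range_comp_le_range _ _) ?_
    rintro _ ⟨v, rfl⟩
    obtain ⟨_, ⟨u, hu, rfl⟩, e, he, hsum⟩ := Submodule.mem_sup.1 (hx.step h1 hN v.2)
    refine ⟨⟨u, hu⟩, LinearMap.ext fun z => ?_⟩
    show L.τ (x * u * (z : A)) = L.τ ((v : A) * z)
    rw [← hsum, add_mul, map_add, (L.mem_Ann.1 he).2 z z.2, add_zero, LinearMap.mulLeft_apply]
  have e1 := LinearMap.finrank_range_add_finrank_ker f
  have e2 := LinearMap.finrank_range_add_finrank_ker (L.pair n (L.N - n))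
  rw [hrange] at e1
  have hd : ∀ i, L.d i = finrank k (LinearMap.range (L.pair i (L.N - i))) := fun i => rfl
  have h3 := Submodule.finrank_mono hker
  refine ⟨by rw [hd, hd]; omega, fun heq w hw hxw => ?_⟩
  rw [hd, hd] at heq
  have hk : LinearMap.ker (L.pair n (L.N - n)) = LinearMap.ker f :=
    Submodule.eq_of_le_of_finrank_le hker (by omega)
  have : (⟨w, hw⟩ : L.P n) ∈ LinearMap.ker f :=
    LinearMap.mem_ker.2 (LinearMap.ext fun z => (L.mem_Ann.1 hxw).2 z z.2)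
  rw [← hk, LinearMap.mem_ker] at this
  exact L.mem_Ann.2 ⟨hw, fun z hz => LinearMap.congr_fun this ⟨z, hz⟩⟩

theorem Gen.d_le {i j : ℕ} (h1 : 1 ≤ i) (hij : i ≤ j) (hj : j ≤ L.N) : L.d j ≤ L.d i := by
  induction j, hij using Nat.le_induction with
  | base => exact le_rfl
  | succ j hij ih => exact (hx.d_succ (h1.trans hij) hj).1.trans (ih (by omega))

theorem Gen.d_eq {n : ℕ} (h1 : 1 ≤ n) (hn : n + 1 ≤ L.N) : L.d n = L.d 1 := by
  refine le_antisymm (hx.d_le le_rfl h1 (by omega)) ?_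
  rw [← L.d_symm (n := 1) (by omega)]
  exact hx.d_le h1 (by omega) (Nat.sub_le _ _)

theorem Gen.inj {n : ℕ} (h1 : 1 ≤ n) (hn : n + 2 ≤ L.N) {w : A} (hw : w ∈ L.P n)
    (hxw : x * w ∈ L.Ann (n + 1)) : w ∈ L.Ann n :=
  (hx.d_succ h1 (by omega)).2 (by rw [hx.d_eq h1 (by omega), hx.d_eq (by omega) hn]) w hw hxw

end Lay

end CfsgLib.LocalSym5
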