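import Cfsg.Agent.Lib.LocalSym5.Quot
import Cfsg.Agent.Lib.LocalSym5.Bilin

/-!
# Three-dimensional first layers with independent commutators have a generator
-/

set_option autoImplicit false
set_option linter.unusedSectionVars false

namespace CfsgLib.LocalSym5

open Module Matrix

variable {k A : Type*} [Field k] [Ring A] [Algebra k A] [FiniteDimensional k A] (L : Lay k A)

namespace Lay

theorem τ_mul_two {y a : A} (hy : y ∈ L.P (L.N - 2)) (ha : a ∈ L.P 2) :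
    L.τ (y * a) = L.τ (y * L.s 2 (L.pr 2 a)) := by
  rw [← sub_eq_zero, ← map_sub, ← mul_sub]
  exact (L.τ_mul_Ann (by have := L.four; omega) (L.sub_s_mem ha) hy).2

theorem τ_cycle (r w p q : A) : L.τ (r * w * (p * q)) = L.τ (w * p * (q * r)) := by
  simp only [mul_assoc]
  rw [L.symm r]
  simp only [mul_assoc]

theorem pr_eq_zero_of_kill {r : A} (hr : r ∈ L.P 1)
    (h : ∀ w ∈ L.P (L.N - 3), ∀ p ∈ L.P 1, ∀ q ∈ L.P 1, L.τ (r * w * (p * q)) = 0) :
    L.pr 1 r = 0 := by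
  have h4 := L.four
  refine (L.pr_eq_zero hr).2 (L.mem_Ann.2 ⟨hr, fun z hz => ?_⟩)
  rw [Data.P, show L.N - 1 = L.N - 3 + 2 by omega, pow_add] at hz
  refine Submodule.mul_induction_on hz (fun w hw y hy => ?_) fun a b ha hb => by
    rw [mul_add, map_add, ha, hb, add_zero]
  rw [pow_two] at hy
  refine Submodule.mul_induction_on hy (fun p hp q hq => ?_) fun a b ha hb => by
    rw [mul_add, mul_add, map_add, ha, hb, add_zero]
  rw [← mul_assoc r]
  exact h w hw p (by rw [L.P_one]; exact hp) q (by rw [L.P_one]; exact hq)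

theorem mulQ_eq {p q : A} (hp : p ∈ L.P 1) (hq : q ∈ L.P 1) :
    L.pr 2 (p * q) = L.mulQ 1 1 2 (L.pr 1 p) (L.pr 1 q) :=
  (L.mulQ_pr rfl (by have := L.four; omega) hp hq).symm

theorem no_compression
    (hinj : ∀ u v, L.mulQ 1 1 2 u v = L.mulQ 1 1 2 v u → u ≠ 0 → v ∈ Submodule.span k {u})
    {U : Submodule k (L.Q 1)} {g : L.Q 2} (hU : 2 ≤ finrank k U)
    (hg : ∀ u, ∀ v ∈ U, L.mulQ 1 1 2 u v ∈ Submodule.span k {g}) : False := by
  have h4 := L.four
  set β := L.mulQ 1 1 2 with hβ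
  obtain ⟨R, hR, Q₀, hQ₀, hne⟩ : ∃ R ∈ U, ∃ Q₀ ∈ U, β Q₀ R ≠ 0 := by
    by_contra hcon
    push Not at hcon
    obtain ⟨u, hu, hu0⟩ := (Submodule.ne_bot_iff U).1 fun h => by rw [h, finrank_bot] at hU; omega
    have hle : U ≤ Submodule.span k {u} := fun v hv =>
      hinj u v (by rw [hcon v hv u hu, hcon u hu v hv]) hu0
    have h1 := Submodule.finrank_mono hle
    rw [finrank_span_singleton hu0] at h1
    omega
  have hg0 : g ≠ 0 := fun h => hne (by simpa [h] using hg Q₀ R hR)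
  obtain ⟨φ, hφ⟩ := LinearMap.exists_leftInverse_of_injective
    (LinearMap.toSpanSingleton k (L.Q 2) g) (LinearMap.ker_toSpanSingleton k hg0)
  have hφg : φ g = 1 := by simpa using LinearMap.congr_fun hφ 1
  let η : L.Q 1 → L.Q 1 → k := fun u v => φ (β u v)
  have hη : ∀ u, ∀ v ∈ U, β u v = η u v • g := fun u v hv => by
    obtain ⟨c, hc⟩ := Submodule.mem_span_singleton.1 (hg u v hv)
    show β u v = φ (β u v) • g
    rw [← hc, map_smul, hφg, smul_eq_mul, mul_one]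
  have hηQ : η Q₀ R ≠ 0 := fun h => hne (by rw [hη Q₀ R hR, h, zero_smul])
  refine hne ?_
  suffices h : R = 0 by rw [h, map_zero]
  rw [← L.pr_s R]
  refine L.pr_eq_zero_of_kill (L.s_mem R) fun w hw => ?_
  set G := L.s 2 g
  set Φ := L.τ (L.s 1 R * w * G) with hΦ
  have hrw : L.s 1 R * w ∈ L.P (L.N - 2) := by
    have := L.mul_mem_P (L.s_mem R) hw
    rwa [show 1 + (L.N - 3) = L.N - 2 by omega] at this
  have key : ∀ p ∈ L.P 1, ∀ q ∈ L.P 1,
      L.τ (L.s 1 R * w * (p * q)) = η (L.pr 1 q) R * L.τ (w * p * G) := by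
    intro p hp q hq
    have hwp : w * p ∈ L.P (L.N - 2) := by
      have := L.mul_mem_P hw hp
      rwa [show L.N - 3 + 1 = L.N - 2 by omega] at this
    rw [L.τ_cycle, L.τ_mul_two hwp (L.mul_mem_P (i := 1) (j := 1) hq (L.s_mem R)),
      L.mulQ_eq hq (L.s_mem R), L.pr_s, ← hβ, hη _ R hR, map_smul, mul_smul_comm, map_smul,
      smul_eq_mul]
  have key2 : ∀ p ∈ L.P 1, ∀ Qv ∈ U, η (L.pr 1 p) Qv * Φ = η Qv R * L.τ (w * p * G) := by
    intro p hp Qv hQv
    have h := key p hp _ (L.s_mem Qv)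
    rw [L.pr_s, L.τ_mul_two hrw (L.mul_mem_P (i := 1) (j := 1) hp (L.s_mem Qv)),
      L.mulQ_eq hp (L.s_mem Qv), L.pr_s, ← hβ, hη _ Qv hQv, map_smul, mul_smul_comm, map_smul,
      smul_eq_mul] at h
    exact h
  have hΦ0 : Φ = 0 := by
    by_contra hΦ0
    obtain ⟨Q₁, hQ₁, hQ₁0, hz⟩ : ∃ Q₁ ∈ U, Q₁ ≠ 0 ∧ η Q₁ R = 0 := by
      let f : U →ₗ[k] k := (φ.comp (β.flip R)).comp U.subtype
      have hker := LinearMap.finrank_range_add_finrank_ker f
      have h1 := Submodule.finrank_le (LinearMap.range f)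
      rw [finrank_self] at h1
      obtain ⟨u, hu, hu0⟩ := (Submodule.ne_bot_iff (LinearMap.ker f)).1 fun h => by
        rw [h, finrank_bot] at hker; omega
      exact ⟨u, u.2, fun h => hu0 (Subtype.ext h), hu⟩
    refine hQ₁0 (L.eq_zero_of_mul fun u => ?_)
    have h := key2 _ (L.s_mem u) Q₁ hQ₁
    rw [hz, zero_mul, L.pr_s] at h
    rw [← hβ, hη u Q₁ hQ₁, (mul_eq_zero.1 h).resolve_right hΦ0, zero_smul]
  intro p hp q hq
  have h := key2 p hp Q₀ hQ₀
  rw [hΦ0, mul_zero] at h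
  rw [key p hp q hq, (mul_eq_zero.1 h.symm).resolve_left hηQ, mul_zero]

theorem no_cross (hd1 : L.d 1 = 3) (E F : L.Q 1 ≃ₗ[k] (Fin 3 → k))
    (C : (Fin 3 → k) ≃ₗ[k] L.Q 2)
    (hC : ∀ z v, L.mulQ 1 1 2 z v = C (E z ⨯₃ F v)) : False := by
  have h4 := L.four
  let H : A →ₗ[k] Fin 3 → k := LinearMap.pi fun i =>
    L.τ.comp (LinearMap.mulRight k (L.s 2 (C (Pi.single i 1))))
  have hH : ∀ y c, L.τ (y * L.s 2 (C c)) = H y ⬝ᵥ c := by
    intro y c
    conv_lhs => rw [pi_eq_sum_univ' c]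
    simp [H, map_sum, map_smul, Finset.mul_sum, dotProduct, mul_comm]
  have T1 : ∀ y ∈ L.P (L.N - 2), ∀ q ∈ L.P 1, ∀ r ∈ L.P 1,
      L.τ (y * (q * r)) = H y ⬝ᵥ (E (L.pr 1 q) ⨯₃ F (L.pr 1 r)) := by
    intro y hy q hq r hr
    rw [L.τ_mul_two hy (L.mul_mem_P (i := 1) (j := 1) hq hr), L.mulQ_eq hq hr, hC, hH]
  have hHA : ∀ y ∈ L.Ann (L.N - 2), H y = 0 := fun y hy => funext fun i =>
    (L.τ_mul_Ann (by omega) hy (L.s_mem _)).1
  let D : L.Q 1 ≃ₗ[k] (Fin 3 → k) := F.trans (E.symm.trans F)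
  have hmem : ∀ w ∈ L.P (L.N - 3), ∀ r ∈ L.P 1,
      r * w ∈ L.P (L.N - 2) ∧ w * r ∈ L.P (L.N - 2) := fun w hw r hr => by
    have h1 := L.mul_mem_P hr hw
    have h2 := L.mul_mem_P hw hr
    rw [show 1 + (L.N - 3) = L.N - 2 by omega] at h1
    rw [show L.N - 3 + 1 = L.N - 2 by omega] at h2
    exact ⟨h1, h2⟩
  let κ : A →ₗ[k] k := (LinearMap.proj 0).comp
    (H.comp (LinearMap.mulLeft k (L.s 1 (D.symm (Pi.single 0 1)))))
  have hκ : ∀ w ∈ L.P (L.N - 3), ∀ r ∈ L.P 1, H (r * w) = κ w • D (L.pr 1 r) := by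
    intro w hw
    have hD : ∀ R : L.Q 1, R ≠ 0 → ∃ c : k, c • D R = H (L.s 1 R * w) := by
      intro R hR
      have hD0 : D R ≠ 0 := fun h => hR (D.map_eq_zero_iff.1 h)
      have hcross : D R ⨯₃ H (L.s 1 R * w) = 0 := by
        refine dotProduct_eq_zero _ fun v => ?_
        obtain ⟨P, rfl⟩ := E.surjective v
        rw [dotProduct_comm, triple_product_permutation, triple_product_permutation]
        have e1 := T1 _ (hmem w hw _ (L.s_mem R)).1 _ (L.s_mem P) _ (L.s_mem (E.symm (F R)))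
        have e2 := T1 _ (hmem w hw _ (L.s_mem P)).2 _ (L.s_mem (E.symm (F R))) _ (L.s_mem R)
        rw [L.pr_s, L.pr_s] at e1 e2
        rw [L.τ_cycle, e2, LinearEquiv.apply_symm_apply, cross_self, dotProduct_zero] at e1
        exact e1.symm
      by_contra hcon
      push Not at hcon
      exact crossProduct_ne_zero_iff_linearIndependent.2
        ((LinearIndependent.pair_iff' hD0).2 hcon) hcross
    let f : (Fin 3 → k) →ₗ[k] (Fin 3 → k) :=
      (H.comp (LinearMap.mulRight k w)).comp ((L.s 1).comp D.symm.toLinearMap)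
    obtain ⟨c, hc⟩ := LinearMap.exists_eq_smul_id_of_forall_notLinearIndependent (f := f) fun v => by
      intro hli
      have hv : v ≠ 0 := hli.ne_zero 0
      obtain ⟨c, hc⟩ := hD (D.symm v) fun h => hv (D.symm.map_eq_zero_iff.1 h)
      rw [D.apply_symm_apply] at hc
      exact (LinearIndependent.pair_iff' hv).1 hli c hc
    have hκc : κ w = c := by
      show f (Pi.single 0 1) 0 = c
      rw [hc]; simp
    intro r hr
    have h0 := hHA _ (by
      have := L.mul_Ann_right (n := 1) (m := L.N - 3) (by omega) (L.sub_s_mem hr) hw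
      rwa [show 1 + (L.N - 3) = L.N - 2 by omega] at this)
    rw [sub_mul, map_sub, sub_eq_zero] at h0
    rw [h0, hκc]
    calc H (L.s 1 (L.pr 1 r) * w) = f (D (L.pr 1 r)) := by simp [f]
      _ = c • D (L.pr 1 r) := by rw [hc]; rfl
  let G : L.Q 1 → L.Q 1 → L.Q 1 → k := fun R P Qv => D R ⬝ᵥ (E P ⨯₃ F Qv)
  have T2 : ∀ w ∈ L.P (L.N - 3), ∀ r ∈ L.P 1, ∀ p ∈ L.P 1, ∀ q ∈ L.P 1,
      L.τ (r * w * (p * q)) = κ w * G (L.pr 1 r) (L.pr 1 p) (L.pr 1 q) := by
    intro w hw r hr p hp q hq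
    rw [T1 _ (hmem w hw r hr).1 p hp q hq, hκ w hw r hr, smul_dotProduct, smul_eq_mul]
  have hκ0 : ∀ w ∈ L.P (L.N - 3), κ w = 0 := by
    intro w hw
    rw [Data.P, show L.N - 3 = L.N - 4 + 1 by omega, pow_add, pow_one] at hw
    refine Submodule.mul_induction_on hw (fun w' hw' s hs => ?_) fun a b ha hb => by
      rw [map_add, ha, hb, add_zero]
    have hs1 : s ∈ L.P 1 := by rw [L.P_one]; exact hs
    have h1 : ∀ a ∈ L.P 1, a * w' ∈ L.P (L.N - 3) ∧ w' * a ∈ L.P (L.N - 3) := fun a ha => by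
      have h1 := L.mul_mem_P ha hw'
      have h2 := L.mul_mem_P hw' ha
      rw [show 1 + (L.N - 4) = L.N - 3 by omega] at h1
      rw [show L.N - 4 + 1 = L.N - 3 by omega] at h2
      exact ⟨h1, h2⟩
    obtain ⟨R, hR, hR0⟩ : ∃ R : L.Q 1, κ (L.s 1 R * w') = 0 ∧ R ≠ 0 := by
      let f := (κ.comp (LinearMap.mulRight k w')).comp (L.s 1)
      have hker := LinearMap.finrank_range_add_finrank_ker f
      have h2 := Submodule.finrank_le (LinearMap.range f)
      rw [finrank_self] at h2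
      rw [L.finrank_Q, hd1] at hker
      obtain ⟨u, hu, hu0⟩ := (Submodule.ne_bot_iff (LinearMap.ker f)).1 fun h => by
        rw [h, finrank_bot] at hker; omega
      exact ⟨u, hu, hu0⟩
    by_contra hne
    refine hR0 (D.map_eq_zero_iff.1 (dotProduct_eq_zero _ fun c => ?_))
    have key : ∀ P Qv : L.Q 1, G R P Qv = 0 := fun P Qv => by
      have e1 := T2 _ (h1 s hs1).2 _ (L.s_mem R) _ (L.s_mem P) _ (L.s_mem Qv)
      have e2 := T2 _ (h1 _ (L.s_mem R)).1 _ (L.s_mem Qv) s hs1 _ (L.s_mem P)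
      rw [hR, zero_mul] at e2
      have e3 : L.τ (L.s 1 R * (w' * s) * (L.s 1 P * L.s 1 Qv))
          = L.τ (L.s 1 Qv * (L.s 1 R * w') * (s * L.s 1 P)) := by
        rw [show L.s 1 R * (w' * s) * (L.s 1 P * L.s 1 Qv)
          = L.s 1 R * w' * (s * L.s 1 P) * L.s 1 Qv by simp only [mul_assoc], L.symm]
        simp only [mul_assoc]
      rw [e3, e2, L.pr_s, L.pr_s, L.pr_s] at e1
      exact (mul_eq_zero.1 e1.symm).resolve_left hne
    have hc : ∀ a b : Fin 3 → k, D R ⬝ᵥ (a ⨯₃ b) = 0 := fun a b => by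
      have := key (E.symm a) (F.symm b)
      simpa [G] using this
    have hi : ∀ i, D R i = 0 := fun i => by
      fin_cases i
      · simpa [cross_apply, vecHead, vecTail] using hc ![0, 1, 0] ![0, 0, 1]
      · simpa [cross_apply, vecHead, vecTail] using hc ![0, 0, 1] ![1, 0, 0]
      · simpa [cross_apply, vecHead, vecTail] using hc ![1, 0, 0] ![0, 1, 0]
    rw [show D R = 0 from funext hi, zero_dotProduct]
  refine absurd hd1 ?_
  have hz : ∀ R : L.Q 1, R = 0 := fun R => by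
    rw [← L.pr_s R]
    refine L.pr_eq_zero_of_kill (L.s_mem R) fun w hw p hp q hq => ?_
    rw [T2 w hw _ (L.s_mem R) p hp q hq, hκ0 w hw, zero_mul]
  have : Subsingleton (L.Q 1) := ⟨fun a b => by rw [hz a, hz b]⟩
  rw [← L.finrank_Q, Module.finrank_zero_of_subsingleton]
  omega

theorem exists_gen_three [Infinite k] (hd1 : L.d 1 = 3) (hd2 : L.d 2 = 3)
    (hinj : ∀ u v, L.mulQ 1 1 2 u v = L.mulQ 1 1 2 v u → u ≠ 0 → v ∈ Submodule.span k {u}) :
    ∃ x, Function.Surjective (L.mulQ 1 1 2 x) := by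
  rcases trichotomy (L.mulQ 1 1 2) ((L.finrank_Q 1).trans hd1) ((L.finrank_Q 2).trans hd2)
    L.span_mulQ (fun v hv => L.eq_zero_of_mul hv) with h | ⟨U, g, hU, hg⟩ | ⟨E, F, C, hC⟩
  · exact h
  · exact (L.no_compression hinj hU hg).elim
  · exact (L.no_cross hd1 E F C hC).elim

end Lay

end CfsgLib.LocalSym5
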