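import Cfsg.Agent.Lib.LocalSym5.Setting

/-!
# The layers of a symmetric local algebra modulo the annihilator of the top pairing
-/

set_option autoImplicit false
set_option linter.unusedSectionVars false

namespace CfsgLib.LocalSym5

open Module

variable {k A : Type*} [Field k] [Ring A] [Algebra k A] [FiniteDimensional k A] (S : Data k A)

namespace Data

/-- The pairing of two powers of the radical. -/
def pair (i j : ℕ) : S.P i →ₗ[k] Dual k (S.P j) :=
  ((LinearMap.mul k A).compr₂ S.τ).compl₁₂ (S.P i).subtype (S.P j).subtype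

theorem pair_apply (i j : ℕ) (u : S.P i) (v : S.P j) : S.pair i j u v = S.τ ((u : A) * v) := rfl

/-- The elements of the `i`-th power pairing trivially with the `j`-th. -/
def perp (i j : ℕ) : Submodule k A := (LinearMap.ker (S.pair i j)).map (S.P i).subtype

theorem mem_perp {i j : ℕ} {w : A} :
    w ∈ S.perp i j ↔ w ∈ S.P i ∧ ∀ z ∈ S.P j, S.τ (w * z) = 0 := by
  constructor
  · rintro ⟨u, hu, rfl⟩
    exact ⟨u.2, fun z hz => LinearMap.congr_fun (LinearMap.mem_ker.1 hu) ⟨z, hz⟩⟩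
  · rintro ⟨h1, h2⟩
    exact ⟨⟨w, h1⟩, LinearMap.mem_ker.2 (LinearMap.ext fun z => h2 z z.2), rfl⟩

/-- The rank of a pairing. -/
noncomputable def rk (i j : ℕ) : ℕ := finrank k (LinearMap.range (S.pair i j))

theorem rk_le_symm (i j : ℕ) : S.rk i j ≤ S.rk j i := by
  have h : S.pair i j = (S.pair j i).dualMap ∘ₗ Module.Dual.eval k (S.P i) := by
    ext u v
    exact S.symm _ _
  calc S.rk i j ≤ finrank k (LinearMap.range (S.pair j i).dualMap) := by
        rw [rk, h]; exact Submodule.finrank_mono (LinearMap.range_comp_le_range _ _)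
    _ = S.rk j i := LinearMap.finrank_range_dualMap_eq_finrank_range _

theorem rk_symm (i j : ℕ) : S.rk i j = S.rk j i := le_antisymm (S.rk_le_symm i j) (S.rk_le_symm j i)

theorem finrank_P (i j : ℕ) : finrank k (S.P i) = finrank k (S.perp i j) + S.rk i j := by
  rw [perp, rk, Submodule.finrank_map_subtype_eq, add_comm,
    LinearMap.finrank_range_add_finrank_ker]

theorem mul_perp {i j m : ℕ} {w a : A} (hw : w ∈ S.perp i (m + j)) (ha : a ∈ S.P m) :
    w * a ∈ S.perp (i + m) j ∧ a * w ∈ S.perp (i + m) j := by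
  rw [mem_perp] at hw
  refine ⟨S.mem_perp.2 ⟨S.mul_mem_P hw.1 ha, fun z hz => ?_⟩,
    S.mem_perp.2 ⟨add_comm m i ▸ S.mul_mem_P ha hw.1, fun z hz => ?_⟩⟩
  · rw [mul_assoc]
    exact hw.2 _ (S.mul_mem_P ha hz)
  · rw [mul_assoc, S.symm, mul_assoc]
    exact hw.2 _ (add_comm j m ▸ S.mul_mem_P hz ha)

end Data

/-- A symmetric local algebra whose radical has length `N ≥ 4`. -/
structure Lay (k A : Type*) [Field k] [Ring A] [Algebra k A] extends Data k A where
  N : ℕ
  top : toData.P (N + 1) = ⊥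
  ne : toData.P N ≠ ⊥
  four : 4 ≤ N

variable (L : Lay k A)

namespace Lay

/-- The part of the `n`-th power invisible to the top pairing. -/
def Ann (n : ℕ) : Submodule k A := L.perp n (L.N - n)

/-- The dimension of the `n`-th visible layer. -/
noncomputable def d (n : ℕ) : ℕ := L.rk n (L.N - n)

theorem mem_Ann {n : ℕ} {w : A} :
    w ∈ L.Ann n ↔ w ∈ L.P n ∧ ∀ z ∈ L.P (L.N - n), L.τ (w * z) = 0 := L.mem_perp

theorem Ann_le {n : ℕ} : L.Ann n ≤ L.P n := fun _ hw => (L.mem_Ann.1 hw).1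

theorem d_symm {n : ℕ} (hn : n ≤ L.N) : L.d (L.N - n) = L.d n := by
  rw [d, d, L.rk_symm, Nat.sub_sub_self hn]

theorem finrank_P' (n : ℕ) : finrank k (L.P n) = finrank k (L.Ann n) + L.d n := L.finrank_P _ _

theorem P_succ_le_Ann {n : ℕ} (hn : 1 ≤ n) (hnN : n < L.N) : L.P (n + 1) ≤ L.Ann n :=
  fun w hw => L.mem_Ann.2 ⟨L.P_succ_le hn hw, fun z hz => by
    have h := L.mul_mem_P hw hz
    rw [show n + 1 + (L.N - n) = L.N + 1 by omega, L.top, Submodule.mem_bot] at h
    rw [h, map_zero]⟩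

theorem mul_Ann {n m : ℕ} (h : n + m ≤ L.N) {w a : A} (hw : w ∈ L.Ann n) (ha : a ∈ L.P m) :
    w * a ∈ L.Ann (n + m) ∧ a * w ∈ L.Ann (n + m) := by
  rw [Ann, show L.N - n = m + (L.N - (n + m)) by omega] at hw
  exact L.mul_perp hw ha

theorem mul_Ann_right {n m : ℕ} (h : n + m ≤ L.N) {w a : A} (hw : w ∈ L.Ann n) (ha : a ∈ L.P m) :
    w * a ∈ L.Ann (n + m) := (L.mul_Ann h hw ha).1

theorem mul_Ann_left {n m : ℕ} (h : m + n ≤ L.N) {w a : A} (ha : a ∈ L.P m) (hw : w ∈ L.Ann n) :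
    a * w ∈ L.Ann (m + n) := by
  rw [add_comm m n]; exact (L.mul_Ann (by omega) hw ha).2

theorem Ann_top : L.Ann L.N = ⊥ := (Submodule.eq_bot_iff _).2 fun w hw => by
  rw [mem_Ann, Nat.sub_self] at hw
  refine L.eq_zero_top L.top hw.1 ?_
  simpa using hw.2 1 L.one_mem_P_zero

theorem τ_mul_Ann {n m : ℕ} (h : n + m = L.N) {w a : A} (hw : w ∈ L.Ann n) (ha : a ∈ L.P m) :
    L.τ (w * a) = 0 ∧ L.τ (a * w) = 0 := by
  have h1 := (L.mem_Ann.1 hw).2 a (by rwa [show L.N - n = m by omega])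
  exact ⟨h1, L.symm a w ▸ h1⟩

end Lay

end CfsgLib.LocalSym5
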