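import Cfsg.Agent.Lib.LocalSym5.Commutators

/-!
# The radical of a symmetric local algebra with five-dimensional centre is short
-/

set_option autoImplicit false
set_option linter.unusedSectionVars false

namespace CfsgLib.LocalSym5

open Module

variable {k A : Type*} [Field k] [IsAlgClosed k] [Ring A] [Algebra k A] [FiniteDimensional k A]
  (L : Lay k A)

namespace Lay

theorem P_N_le {n : ℕ} (h1 : 1 ≤ n) (hn : n + 1 ≤ L.N) : L.P L.N ≤ L.Ann n :=
  (L.P_anti (m := n + 1) (by omega) hn).trans (L.P_succ_le_Ann h1 hn)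

theorem false_of_three {a b c : A} (ha : a ∈ L.P 1) (hb : b ∈ L.P 1) (hc : c ∈ L.P 1)
    (hJ : L.P 1 ≤ Submodule.span k {a, b, c} ⊔ L.P 2) (hP2 : L.P 2 ≤ L.K ⊔ L.P L.N) : False := by
  have h4 := L.four
  set T : Submodule k A :=
    Submodule.span k {a * b - b * a, a * c - c * a, b * c - c * b} with hTdef
  have m0 : a * b - b * a ∈ T := Submodule.subset_span (by simp)
  have m1 : a * c - c * a ∈ T := Submodule.subset_span (by simp)
  have m2 : b * c - c * b ∈ T := Submodule.subset_span (by simp)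
  have hK : L.K ≤ T ⊔ L.C 2 := L.K_le_span hJ (by
    rintro p (rfl | rfl | rfl) q (rfl | rfl | rfl) <;>
      first
      | (rw [sub_self]; exact T.zero_mem)
      | assumption
      | (rw [← neg_sub]; exact T.neg_mem (by assumption)))
  have hP2' : L.P 2 ≤ T ⊔ L.C 2 ⊔ L.P L.N := hP2.trans (sup_le_sup_right hK _)
  have hC2 : L.C 2 ≤ L.Ann 2 := (L.C_le 2).trans (L.P_succ_le_Ann (by omega) (by omega))
  have hAnn1 : L.P 2 ≤ L.Ann 1 := L.P_succ_le_Ann le_rfl (by omega)
  set va := L.pr 1 a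
  set vb := L.pr 1 b
  set vc := L.pr 1 c
  let G : Fin 3 → L.Q 2 := ![L.γ va vb, L.γ va vc, L.γ vb vc]
  have hG : ∀ i, G i = L.pr 2 (![a * b - b * a, a * c - c * a, b * c - c * b] i) := fun i => by
    fin_cases i
    · exact L.γ_pr ha hb
    · exact L.γ_pr ha hc
    · exact L.γ_pr hb hc
  have htop2 : ⊤ ≤ Submodule.span k (Set.range G) := by
    have h := L.span_pr_top (n := 2) (X := T)
      (hP2'.trans (sup_le (sup_le le_sup_left (hC2.trans le_sup_right))
        ((L.P_N_le (by omega) (by omega)).trans le_sup_right)))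
    rw [← h, hTdef, Submodule.map_span]
    refine Submodule.span_mono ?_
    rintro _ ⟨w, rfl | rfl | rfl, rfl⟩
    · exact ⟨0, hG 0⟩
    · exact ⟨1, hG 1⟩
    · exact ⟨2, hG 2⟩
  let e1 : Fin 3 → L.Q 1 := ![va, vb, vc]
  have htop1 : ⊤ ≤ Submodule.span k (Set.range e1) := by
    have h := L.span_pr_top (n := 1) (X := Submodule.span k {a, b, c})
      (hJ.trans (sup_le_sup_left hAnn1 _))
    rw [← h, Submodule.map_span]
    refine Submodule.span_mono ?_
    rintro _ ⟨w, rfl | rfl | rfl, rfl⟩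
    · exact ⟨0, rfl⟩
    · exact ⟨1, rfl⟩
    · exact ⟨2, rfl⟩
  have hd1 : L.d 1 ≤ 3 := by
    rw [← L.finrank_Q, ← finrank_top, ← top_le_iff.1 htop1]
    simpa [Set.finrank] using finrank_range_le_card (R := k) e1
  have hd2 : L.d 2 ≤ 3 := by
    rw [← L.finrank_Q, ← finrank_top, ← top_le_iff.1 htop2]
    simpa [Set.finrank] using finrank_range_le_card (R := k) G
  have hd1' := L.one_le_d_one
  have hQ1 : Nontrivial (L.Q 1) :=
    Module.nontrivial_of_finrank_pos (R := k) (by rw [L.finrank_Q]; omega)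
  have small : ∀ g : L.Q 2, (∀ u v, L.γ u v ∈ Submodule.span k {g}) →
      L.d 2 ≤ finrank k (Submodule.span k {g}) := by
    intro g hg
    rw [← L.finrank_Q, ← finrank_top]
    refine Submodule.finrank_mono (htop2.trans (Submodule.span_le.2 ?_))
    rintro _ ⟨i, rfl⟩
    fin_cases i <;> exact hg _ _
  by_cases hd13 : L.d 1 = 3
  swap
  · rcases (show L.d 1 = 1 ∨ L.d 1 = 2 by omega) with hd | hd
    · obtain ⟨u₀, hu₀, hspan⟩ := finrank_eq_one_iff'.1 ((L.finrank_Q 1).trans hd)
      have h := small 0 fun u v => by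
        obtain ⟨r, rfl⟩ := hspan u
        obtain ⟨t, rfl⟩ := hspan v
        simp [γ_self]
      rw [Submodule.span_zero_singleton, finrank_bot] at h
      have hQ2 : Subsingleton (L.Q 2) :=
        Module.finrank_zero_iff.1 (by rw [L.finrank_Q]; omega : finrank k (L.Q 2) = 0)
      exact hu₀ (L.eq_zero_of_mul fun u => Subsingleton.elim _ _)
    · let B := Module.finBasisOfFinrankEq k (L.Q 1) ((L.finrank_Q 1).trans hd)
      have h := small (L.γ (B 0) (B 1)) fun u v => by
        rw [← B.sum_repr u, ← B.sum_repr v]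
        simp only [Fin.sum_univ_two, map_add, map_smul, LinearMap.add_apply, LinearMap.smul_apply,
          γ_self, smul_zero, add_zero, zero_add, L.γ_swap (B 0) (B 1)]
        refine Submodule.add_mem _ ?_ ?_ <;>
          first
          | exact Submodule.smul_mem _ _ (Submodule.smul_mem _ _
              (Submodule.mem_span_singleton_self _))
          | exact Submodule.smul_mem _ _ (Submodule.smul_mem _ _
              (Submodule.neg_mem _ (Submodule.mem_span_singleton_self _)))
      have h1 := finrank_span_le_card (R := k) ({L.γ (B 0) (B 1)} : Set (L.Q 2))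
      simp only [Set.toFinset_singleton, Finset.card_singleton] at h1
      have hQ2 : finrank k (L.Q 2) ≤ 2 := by rw [L.finrank_Q]; omega
      obtain ⟨x, hx⟩ := exists_surjective_of_le_two (L.mulQ 1 1 2)
        (by rw [L.finrank_Q]; omega) hQ2 L.span_mulQ fun v hv => L.eq_zero_of_mul hv
      have := (L.gen_of_surjective hx).d_eq (n := 2) (by omega) (by omega)
      omega
  have hd23 : L.d 2 = 3 := by
    by_contra hne
    have hQ2 : finrank k (L.Q 2) ≤ 2 := by rw [L.finrank_Q]; omega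
    obtain ⟨x, hx⟩ := exists_surjective_of_le_two (L.mulQ 1 1 2)
      (by rw [L.finrank_Q]; omega) hQ2 L.span_mulQ fun v hv => L.eq_zero_of_mul hv
    have := (L.gen_of_surjective hx).d_eq (n := 2) (by omega) (by omega)
    omega
  have hindG : LinearIndependent k G :=
    linearIndependent_of_top_le_span_of_card_eq_finrank htop2
      (by rw [Fintype.card_fin, L.finrank_Q, hd23])
  have hinj : ∀ u v, L.mulQ 1 1 2 u v = L.mulQ 1 1 2 v u → u ≠ 0 →
      v ∈ Submodule.span k {u} := by
    intro u v huv hu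
    have hz : L.γ u v = 0 := by rw [γ_apply, huv, sub_self]
    obtain ⟨f, rfl⟩ := (Submodule.mem_span_range_iff_exists_fun k).1 (htop1 (x := u) trivial)
    obtain ⟨g, rfl⟩ := (Submodule.mem_span_range_iff_exists_fun k).1 (htop1 (x := v) trivial)
    have h := Fintype.linearIndependent_iff.1 hindG
      ![f 0 * g 1 - f 1 * g 0, f 0 * g 2 - f 2 * g 0, f 1 * g 2 - f 2 * g 1] (by
      rw [← hz]
      simp only [Fin.sum_univ_three, e1, G, Matrix.cons_val_zero, Matrix.cons_val_one,
        Matrix.cons_val_two, Matrix.head_cons, Matrix.tail_cons, map_add, map_smul,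
        LinearMap.add_apply, LinearMap.smul_apply, γ_self, L.γ_swap va vb, L.γ_swap va vc,
        L.γ_swap vb vc]
      module)
    have e01 : f 0 * g 1 = f 1 * g 0 := sub_eq_zero.1 (h 0)
    have e02 : f 0 * g 2 = f 2 * g 0 := sub_eq_zero.1 (h 1)
    have e12 : f 1 * g 2 = f 2 * g 1 := sub_eq_zero.1 (h 2)
    have hall : ∀ i j, f i * g j = f j * g i := fun i j => by
      fin_cases i <;> fin_cases j <;> first | rfl | assumption | (symm; assumption)
    obtain ⟨i, hi⟩ : ∃ i, f i ≠ 0 := by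
      by_contra hcon
      push Not at hcon
      exact hu (by simp [hcon])
    refine Submodule.mem_span_singleton.2 ⟨g i / f i, ?_⟩
    rw [Finset.smul_sum]
    refine Finset.sum_congr rfl fun j _ => ?_
    rw [smul_smul]
    congr 1
    field_simp
    linear_combination -(hall i j)
  obtain ⟨xb, hxb⟩ := L.exists_gen_three hd13 hd23 hinj
  have hx := L.gen_of_surjective hxb
  have hd3 : finrank k (L.Q 1) = 3 := (L.finrank_Q 1).trans hd13
  have hfix : ∀ v, (twist hx).σ v = v → v ∈ Submodule.span k {(twist hx).x} := by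
    intro v hv
    rw [twist_x]
    refine hinj _ v ?_ ?_
    · rw [eq_comm, ← sub_eq_zero, ← γ_apply, γ_x hx, ← twist_σ_eq hx, hv, sub_self, map_zero]
    · rw [← twist_x hx]; exact (twist hx).x_ne
  obtain ⟨hcomm, hσ3⟩ := (twist hx).three hd3 hfix
  refine absurd_of_kill hx (n := 3) (by omega) (by omega) fun z hz => ?_
  have hz2 : z ∈ L.P 2 := L.P_succ_le (n := 2) (by omega) hz
  obtain ⟨tr, htr, o, ho, hsum⟩ := Submodule.mem_sup.1 (hP2' hz2)
  obtain ⟨t, ht, r, hr, htre⟩ := Submodule.mem_sup.1 htr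
  have hoP : o ∈ L.P 3 := L.P_anti (m := 3) (by omega) (by omega) ho
  have hrP : r ∈ L.P 3 := L.C_le 2 hr
  have htP : t ∈ L.P 3 := by
    have := (L.P 3).sub_mem ((L.P 3).sub_mem hz hoP) hrP
    rwa [← hsum, ← htre, add_sub_cancel_right, add_sub_cancel_right] at this
  obtain ⟨α, β, δ, rfl⟩ := Submodule.mem_span_triple.1 ht
  have h0 := L.pr_Ann (L.P_succ_le_Ann (n := 2) (by omega) (by omega) htP)
  have hcoef := Fintype.linearIndependent_iff.1 hindG ![α, β, δ] (by
    simp only [Fin.sum_univ_three, hG, Matrix.cons_val_zero, Matrix.cons_val_one,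
      Matrix.cons_val_two, Matrix.head_cons, Matrix.tail_cons]
    rw [← h0]
    simp only [map_add, map_smul])
  have hα : α = 0 := hcoef 0
  have hβ : β = 0 := hcoef 1
  have hδ : δ = 0 := hcoef 2
  rw [← hsum, ← htre, hα, hβ, hδ, zero_smul, zero_smul, zero_smul, add_zero, add_zero, zero_add,
    map_add, map_add, θ_Ann hx (L.P_N_le (n := 3) (by omega) (by omega) ho), map_zero, add_zero]
  refine kill_C hx (i := 2) (by omega) (by omega) (fun u ζ => ?_) r hr
  rw [pow_two, Module.End.mul_apply, ← (twist hx).lam_σ ((twist hx).mul _ u),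
    (twist hx).σ_mul, twist_σ_eq]
  have := hσ3 ζ
  rw [twist_σ_eq] at this
  rw [this, hcomm]

theorem false_of_two (hN : 5 ≤ L.N) {a b : A} (ha : a ∈ L.P 1) (hb : b ∈ L.P 1)
    (hJ : L.P 1 ≤ Submodule.span k {a, b} ⊔ L.P 2) (hu : a * b - b * a ∉ L.P 3)
    (hP3 : L.P 3 ≤ L.K ⊔ L.P L.N) (hm : finrank k (L.P 1) = finrank k (L.P 2) + 2)
    (hr : finrank k (L.P 2) = finrank k (L.P 3) + 2) : False := by
  have h4 := L.four
  set u := a * b - b * a
  have hK : L.K ≤ Submodule.span k {u} ⊔ L.C 2 := L.K_le_span hJ (by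
    rintro p (rfl | rfl) q (rfl | rfl) <;>
      first
      | (rw [sub_self]; exact Submodule.zero_mem _)
      | exact Submodule.mem_span_singleton_self _
      | (rw [← neg_sub]; exact Submodule.neg_mem _ (Submodule.mem_span_singleton_self _)))
  have hP3' : L.P 3 ≤ L.C 2 ⊔ L.P L.N := fun z hz => by
    obtain ⟨cr, hcr, o, ho, rfl⟩ := Submodule.mem_sup.1 (hP3 hz)
    obtain ⟨cu, hcu, r, hr', rfl⟩ := Submodule.mem_sup.1 (hK hcr)
    obtain ⟨q, rfl⟩ := Submodule.mem_span_singleton.1 hcu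
    have hq : q • u ∈ L.P 3 := by
      have := (L.P 3).sub_mem ((L.P 3).sub_mem hz (L.P_anti (m := 3) (by omega) (by omega) ho))
        (L.C_le 2 hr')
      rwa [add_sub_cancel_right, add_sub_cancel_right] at this
    have hq0 : q = 0 := by
      by_contra hq0
      exact hu (by simpa [smul_smul, hq0] using (L.P 3).smul_mem q⁻¹ hq)
    rw [hq0, zero_smul, zero_add]
    exact Submodule.add_mem_sup hr' ho
  have hA1 : L.P 2 ≤ L.Ann 1 := L.P_succ_le_Ann le_rfl (by omega)
  have hA2 : L.P 3 ≤ L.Ann 2 := L.P_succ_le_Ann (by omega) (by omega)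
  have e1 := L.finrank_P' 1
  have e2 := L.finrank_P' 2
  have f1 := Submodule.finrank_mono hA1
  have f2 := Submodule.finrank_mono hA2
  have hd1' := L.one_le_d_one
  have hQ1 : Nontrivial (L.Q 1) :=
    Module.nontrivial_of_finrank_pos (R := k) (by rw [L.finrank_Q]; omega)
  have hQ2 : finrank k (L.Q 2) ≤ 2 := by rw [L.finrank_Q]; omega
  obtain ⟨xb, hxb⟩ : ∃ xb, Function.Surjective (L.mulQ 1 1 2 xb) := by
    by_cases hd : L.d 1 = 1
    · obtain ⟨u₀, hu₀, hspan⟩ := finrank_eq_one_iff'.1 ((L.finrank_Q 1).trans hd)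
      refine ⟨u₀, LinearMap.range_eq_top.1 (top_le_iff.1 (L.span_mulQ.ge.trans ?_))⟩
      refine Submodule.span_le.2 ?_
      rintro _ ⟨p, q, rfl⟩
      obtain ⟨r, rfl⟩ := hspan p
      exact ⟨r • q, by rw [map_smul, map_smul, LinearMap.smul_apply]⟩
    · exact exists_surjective_of_le_two (L.mulQ 1 1 2) (by rw [L.finrank_Q]; omega) hQ2
        L.span_mulQ fun v hv => L.eq_zero_of_mul hv
  have hx := L.gen_of_surjective hxb
  have hd12 := hx.d_eq (n := 2) (by omega) (by omega)
  have hxQ : (twist hx).x ≠ 0 := (twist hx).x_ne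
  have hXne : (twist hx).x = L.pr 1 (L.s 1 xb) := rfl
  by_cases hd : L.d 1 = 1
  · -- one-dimensional first layer
    have hall : ∀ v, ∃ r : k, r • (twist hx).x = v := fun v => by
      obtain ⟨u₀, hu₀, hspan⟩ := finrank_eq_one_iff'.1 ((L.finrank_Q 1).trans hd)
      obtain ⟨r, hr⟩ := hspan (twist hx).x
      obtain ⟨t, rfl⟩ := hspan v
      have hr0 : r ≠ 0 := fun h => hxQ (by rw [← hr, h, zero_smul])
      exact ⟨t / r, by rw [← hr, smul_smul, div_mul_cancel₀ _ hr0]⟩
    have hσ : ∀ v, tσ hx v = v := fun v => by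
      obtain ⟨r, rfl⟩ := hall v
      exact (twist hx).σ_smul_x r
    have hcomm : ∀ p q, (twist hx).mul p q = (twist hx).mul q p := fun p q => by
      obtain ⟨r, rfl⟩ := hall p
      rw [map_smul, map_smul, LinearMap.smul_apply, (twist hx).one_mul', (twist hx).mul_one']
    refine absurd_of_kill hx (n := 3) (by omega) (by omega) fun z hz => ?_
    obtain ⟨r, hr', o, ho, rfl⟩ := Submodule.mem_sup.1 (hP3' hz)
    rw [map_add, map_add, θ_Ann hx (L.P_N_le (n := 3) (by omega) (by omega) ho), map_zero,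
      add_zero]
    refine kill_C hx (i := 2) (by omega) (by omega) (fun p ζ => ?_) r hr'
    rw [pow_two, Module.End.mul_apply, hσ, hσ, hσ, hcomm]
  -- two-dimensional first layer
  have hd2 : L.d 1 = 2 := by omega
  have hA1e : L.P 2 = L.Ann 1 := Submodule.eq_of_le_of_finrank_le hA1 (by omega)
  have hA2e : L.P 3 = L.Ann 2 := Submodule.eq_of_le_of_finrank_le hA2 (by omega)
  have h2 : finrank k (L.Q 1) = 2 := (L.finrank_Q 1).trans hd2
  have hne : ∃ v, (twist hx).σ v ≠ v := by
    by_contra hcon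
    push Not at hcon
    obtain ⟨p, -, -, hp, -⟩ := (twist hx).exists_eigen (by omega)
    have hind := (twist hx).indep_x hp hxQ
    have htop : ∀ v, v ∈ Submodule.span k
        {(twist hx).x, p, (twist hx).mul p p} := fun v => by
      refine Submodule.span_mono ?_ (show v ∈ Submodule.span k (Set.range ![(twist hx).x, p]) by
        rw [hind.span_eq_top_of_card_eq_finrank (by simp [h2])]; trivial)
      rintro _ ⟨i, rfl⟩
      fin_cases i <;> simp
    have hcomm := (twist hx).comm_of_span htop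
    apply hu
    rw [hA2e]
    refine (L.pr_eq_zero ((L.P 2).sub_mem (L.mul_mem_P (i := 1) (j := 1) ha hb)
      (L.mul_mem_P (i := 1) (j := 1) hb ha))).1 ?_
    have h := θ_comm hx (i := 1) le_rfl (by omega) ha hb
    rw [θ_one hx ha, pow_one, ← twist_σ_eq hx, hcon, hcon, hcomm (L.pr 1 b), sub_self] at h
    rw [pr_θ hx (n := 2) (by omega) (by omega)]
    rw [show (1 : ℕ) + 1 = 2 from rfl] at h
    rw [h, map_zero]
  obtain ⟨hcomm, hσ2, p, c, hind, hpc, hnzd⟩ := (twist hx).two h2 hne
  have hspan : ∀ v, ∃ α β : k, α • (twist hx).x + β • p = v := fun v => by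
    have hv : v ∈ Submodule.span k (Set.range ![(twist hx).x, p]) := by
      rw [hind.span_eq_top_of_card_eq_finrank (by simp [h2])]; trivial
    rw [Matrix.range_cons_cons_empty, Submodule.mem_span_pair] at hv
    exact hv
  set X := L.s 1 xb
  set P := L.s 1 p
  have hX : X ∈ L.P 1 := L.s_mem _
  have hP : P ∈ L.P 1 := L.s_mem _
  have t1 : θ hx 1 X = (twist hx).x := θ_one hx hX
  have t1' : θ hx 1 P = p := by rw [θ_one hx hP]; exact L.pr_s p
  have hXX : X * X ∈ L.P 2 := L.mul_mem_P (i := 1) (j := 1) hX hX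
  have hXP : X * P ∈ L.P 2 := L.mul_mem_P (i := 1) (j := 1) hX hP
  have hPX : P * X ∈ L.P 2 := L.mul_mem_P (i := 1) (j := 1) hP hX
  have tXX : θ hx 2 (X * X) = (twist hx).x := by
    rw [show (2 : ℕ) = 1 + 1 from rfl, θ_mul hx le_rfl le_rfl (by omega) hX hX, pow_one, t1,
      ← twist_σ_eq hx, (twist hx).σ_x, (twist hx).one_mul']
  have tXP : θ hx 2 (X * P) = p := by
    rw [show (2 : ℕ) = 1 + 1 from rfl, θ_mul hx le_rfl le_rfl (by omega) hX hP, pow_one, t1, t1',
      ← twist_σ_eq hx, (twist hx).σ_x, (twist hx).one_mul']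
  have tPX : θ hx 2 (P * X) = (twist hx).σ p := by
    rw [show (2 : ℕ) = 1 + 1 from rfl, θ_mul hx le_rfl le_rfl (by omega) hP hX, pow_one, t1, t1',
      (twist hx).mul_one']
    rfl
  have mem3 : ∀ w ∈ L.P 2, θ hx 2 w = 0 → w ∈ L.P 3 := fun w hw h => by
    rw [hA2e]
    refine (L.pr_eq_zero hw).1 ?_
    rw [pr_θ hx (n := 2) (by omega) (by omega), h, map_zero]
  set t := X * P + P * X - c • (X * X)
  have ht : t ∈ L.P 3 := mem3 _
    ((L.P 2).sub_mem ((L.P 2).add_mem hXP hPX) ((L.P 2).smul_mem _ hXX)) (by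
      rw [map_sub, map_add, map_smul, tXP, tPX, tXX, add_comm p, hpc, sub_self])
  set E1 := X * P * X - X * (X * P)
  set E2 := X * P * P - P * (X * P)
  set S4 := Submodule.span k {E1, E2} ⊔ L.C 3 with hS4
  have hC22 : ∀ V ∈ L.P 2, ∀ W ∈ L.P 2, V * W - W * V ∈ L.C 3 := by
    intro V hV W hW
    rw [Data.P, pow_two] at hW
    refine Submodule.mul_induction_on hW (fun q hq q' hq' => ?_) fun w w' h h' => by
      rw [mul_add, add_mul, add_sub_add_comm]; exact (L.C 3).add_mem h h'
    have hq1 : q ∈ L.P 1 := by rw [L.P_one]; exact hq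
    have hq'1 : q' ∈ L.P 1 := by rw [L.P_one]; exact hq'
    rw [show V * (q * q') - q * q' * V
      = (V * q * q' - q' * (V * q)) + (q' * V * q - q * (q' * V)) by
      simp only [mul_assoc]; abel]
    exact (L.C 3).add_mem (L.comm_mem_C (L.mul_mem_P (i := 2) (j := 1) hV hq1) hq'1)
      (L.comm_mem_C (L.mul_mem_P (i := 1) (j := 2) hq'1 hV) hq1)
  have hXXX : X * X * X - X * (X * X) ∈ S4 := by
    rw [mul_assoc, sub_self]; exact S4.zero_mem
  have hXXP : X * X * P - P * (X * X) ∈ S4 := by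
    refine Submodule.mem_sup_right ?_
    rw [show X * X * P - P * (X * X) = X * t - t * X by
      simp only [t, mul_sub, sub_mul, mul_add, add_mul, mul_smul_comm, smul_mul_assoc, mul_assoc]
      abel]
    exact L.comm_mem_C' ht hX
  have hE1 : E1 ∈ S4 := Submodule.mem_sup_left (Submodule.subset_span (by simp))
  have hE2 : E2 ∈ S4 := Submodule.mem_sup_left (Submodule.subset_span (by simp))
  have hC2 : L.C 2 ≤ S4 := by
    refine Submodule.map₂_le.2 fun U hU z hz => ?_
    obtain ⟨α, β, hαβ⟩ := hspan (θ hx 2 U)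
    obtain ⟨γ', δ, hγδ⟩ := hspan (L.pr 1 z)
    set U₃ := U - (α • (X * X) + β • (X * P)) with hU₃
    set z₂ := z - (γ' • X + δ • P) with hz₂
    have hVm : α • (X * X) + β • (X * P) ∈ L.P 2 :=
      (L.P 2).add_mem ((L.P 2).smul_mem _ hXX) ((L.P 2).smul_mem _ hXP)
    have hU₃m : U₃ ∈ L.P 3 := mem3 _ ((L.P 2).sub_mem hU hVm) (by
      rw [map_sub, map_add, map_smul, map_smul, tXX, tXP, hαβ, sub_self])
    have hz₂m : z₂ ∈ L.P 2 := by
      rw [hA1e]
      refine (L.pr_eq_zero ((L.P 1).sub_mem hz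
        ((L.P 1).add_mem ((L.P 1).smul_mem _ hX) ((L.P 1).smul_mem _ hP)))).1 ?_
      rw [map_sub, map_add, map_smul, map_smul, ← hXne, L.pr_s, hγδ, sub_self]
    rw [cm_apply, show U * z - z * U = (α * γ') • (X * X * X - X * (X * X))
        + (α * δ) • (X * X * P - P * (X * X)) + (β * γ') • E1 + (β * δ) • E2
        + ((α • (X * X) + β • (X * P)) * z₂ - z₂ * (α • (X * X) + β • (X * P)))
        + (U₃ * z - z * U₃) by
      simp only [hU₃, hz₂, E1, E2, mul_sub, sub_mul, mul_add, add_mul, mul_smul_comm,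
        smul_mul_assoc, smul_sub, smul_smul, mul_assoc]
      module]
    exact S4.add_mem (S4.add_mem (S4.add_mem (S4.add_mem (S4.add_mem (S4.smul_mem _ hXXX)
      (S4.smul_mem _ hXXP)) (S4.smul_mem _ hE1)) (S4.smul_mem _ hE2))
      (Submodule.mem_sup_right (hC22 _ hVm _ hz₂m)))
      (Submodule.mem_sup_right (L.comm_mem_C hU₃m hz))
  have tE : ∀ ζ, ∀ Z ∈ L.P 1, L.pr 1 Z = ζ → θ hx 3 (X * P * Z - Z * (X * P))
      = (twist hx).mul ((twist hx).σ p - p) ζ := by
    intro ζ Z hZ hζ
    rw [show (3 : ℕ) = 2 + 1 from rfl, θ_comm hx (by omega) (by omega) hXP hZ, tXP, hζ,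
      pow_two, Module.End.mul_apply, map_sub, LinearMap.sub_apply, ← twist_σ_eq hx, hσ2,
      hcomm ζ p]
  have tE1 : θ hx 3 E1 = (twist hx).σ p - p := by
    rw [tE (twist hx).x X hX rfl, (twist hx).mul_one']
  have tE2 : θ hx 3 E2 = (twist hx).mul ((twist hx).σ p - p) p := tE p P hP (L.pr_s p)
  refine absurd_of_kill hx (n := 4) (by omega) (by omega) fun z hz => ?_
  obtain ⟨r, hr', o, ho, rfl⟩ :=
    Submodule.mem_sup.1 (hP3' (L.P_succ_le (n := 3) (by omega) hz))
  obtain ⟨es, hes, r3, hr3, rfl⟩ := Submodule.mem_sup.1 (hC2 hr')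
  obtain ⟨α, β, rfl⟩ := Submodule.mem_span_pair.1 hes
  have hes4 : α • E1 + β • E2 ∈ L.P 4 := by
    have := (L.P 4).sub_mem ((L.P 4).sub_mem hz (L.P_anti (m := 4) (by omega) (by omega) ho))
      (L.C_le 3 hr3)
    rwa [add_sub_cancel_right, add_sub_cancel_right] at this
  have h3 := θ_Ann hx (L.P_succ_le_Ann (n := 3) (by omega) (by omega) hes4)
  rw [map_add, map_smul, map_smul, tE1, tE2] at h3
  have h0 : (twist hx).mul (α • (twist hx).x + β • p) (p - (twist hx).σ p) = 0 := by
    rw [map_add, map_smul, map_smul, LinearMap.add_apply, LinearMap.smul_apply,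
      LinearMap.smul_apply, (twist hx).one_mul', hcomm p, ← neg_sub ((twist hx).σ p) p, map_neg,
      LinearMap.neg_apply, smul_neg, smul_neg, ← neg_add, h3, neg_zero]
  obtain ⟨hα, hβ⟩ := LinearIndependent.pair_iff.1 hind α β (hnzd _ h0)
  rw [hα, hβ, zero_smul, zero_smul, add_zero, zero_add, map_add, map_add,
    θ_Ann hx (L.P_N_le (n := 4) (by omega) (by omega) ho), map_zero, add_zero]
  refine kill_C hx (i := 3) (by omega) (by omega) (fun v ζ => ?_) r3 hr3
  rw [pow_succ, pow_two, Module.End.mul_apply, Module.End.mul_apply, ← twist_σ_eq hx, hσ2,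
    ← (twist hx).lam_σ ((twist hx).mul _ v), (twist hx).σ_mul, hσ2, hcomm]

end Lay

end CfsgLib.LocalSym5
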