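import Cfsg.Agent.Lib.LocalSym5.Comm
import Cfsg.Agent.Lib.LocalSym5.Long

/-!
# A symmetric local algebra with five-dimensional centre has dimension at most ten

This is the bound of Chlebowitz and Külshammer.
-/

set_option autoImplicit false
set_option linter.unusedSectionVars false

namespace CfsgLib.LocalSym5

open Module

variable {k A : Type*} [Field k] [Ring A] [Algebra k A] [FiniteDimensional k A]

/-- Representatives of a basis of a quotient of two subspaces. -/
theorem exists_span_compl {X Y : Submodule k A} (hXY : X ≤ Y) {n : ℕ}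
    (h : finrank k Y = finrank k X + n) :
    ∃ v : Fin n → A, (∀ i, v i ∈ Y) ∧ Y ≤ Submodule.span k (Set.range v) ⊔ X := by
  obtain ⟨W₀, hW₀⟩ := (X.comap Y.subtype).exists_isCompl
  have h1 := Submodule.finrank_add_eq_of_isCompl hW₀
  rw [(Submodule.comapSubtypeEquivOfLe hXY).finrank_eq] at h1
  have : Module.Free k W₀ := Module.Free.of_divisionRing k W₀
  let B := Module.finBasisOfFinrankEq k W₀ (show finrank k W₀ = n by omega)
  refine ⟨fun i => ((B i : W₀) : Y), fun i => ((B i : W₀) : Y).2, fun y hy => ?_⟩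
  obtain ⟨a, ha, b, hb, hab⟩ := Submodule.mem_sup.1
    (show (⟨y, hy⟩ : Y) ∈ W₀ ⊔ X.comap Y.subtype by
      rw [sup_comm, hW₀.sup_eq_top]; trivial)
  refine Submodule.mem_sup.2 ⟨(a : A), ?_, (b : A), hb, congrArg (fun z : Y => (z : A)) hab⟩
  rw [show (a : A) = ∑ i, (B.repr ⟨a, ha⟩ i) • (((B i : W₀) : Y) : A) by
    conv_lhs => rw [show (a : A) = (((⟨a, ha⟩ : W₀) : Y) : A) from rfl, ← B.sum_repr ⟨a, ha⟩]
    simp only [Submodule.coe_sum, Submodule.coe_smul]]
  exact Submodule.sum_mem _ fun i _ => Submodule.smul_mem _ _ (Submodule.subset_span ⟨i, rfl⟩)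

namespace Data

variable (S : Data k A)

theorem finrank_J : finrank k A = finrank k S.J + 1 := by
  have h := LinearMap.finrank_range_add_finrank_ker S.φ.toLinearMap
  have hr : LinearMap.range S.φ.toLinearMap = ⊤ :=
    LinearMap.range_eq_top.2 fun c => ⟨algebraMap k A c, S.φ.commutes c⟩
  rw [hr, finrank_top, finrank_self] at h
  rw [J]
  omega

theorem thin_of_finrank_le (h : finrank k (S.P 2) ≤ finrank k (S.P 3) + 1) :
    ∃ w, S.P 2 ≤ Submodule.span k {w} ⊔ S.P 3 := by
  by_cases hle : S.P 2 ≤ S.P 3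
  · exact ⟨0, hle.trans le_sup_right⟩
  obtain ⟨w, hw, hw3⟩ := SetLike.not_le_iff_exists.1 hle
  refine ⟨w, ?_⟩
  have h1 : finrank k (S.P 3) < finrank k ↥(Submodule.span k {w} ⊔ S.P 3) :=
    Submodule.finrank_lt_finrank_of_lt (lt_of_le_of_ne le_sup_right fun he => hw3
      (he.symm ▸ Submodule.mem_sup_left (Submodule.mem_span_singleton_self w)))
  have h23 : S.P 3 ≤ S.P 2 := S.P_succ_le (by omega)
  exact (Submodule.eq_of_le_of_finrank_le (sup_le ((Submodule.span_singleton_le_iff_mem _ _).2 hw)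
    h23) (by omega)).ge

theorem P3_le_span {s t : Set A} (hs : S.P 1 ≤ Submodule.span k s ⊔ S.P 2)
    (ht : S.P 2 ≤ Submodule.span k t ⊔ S.P 3) :
    S.P 3 ≤ Submodule.span k (Set.image2 (· * ·) s t) ⊔ S.P 4 := by
  have e3 : S.P 3 = S.J * S.P 2 := pow_succ' _ _
  conv_lhs => rw [e3]
  refine Submodule.mul_le.2 fun a ha b hb => ?_
  have ha1 := S.mem_one ha
  obtain ⟨a₁, ha₁, a₂, ha₂, rfl⟩ := Submodule.mem_sup.1 (hs ha1)
  obtain ⟨b₁, hb₁, b₂, hb₂, rfl⟩ := Submodule.mem_sup.1 (ht hb)
  rw [add_mul, mul_add, add_assoc]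
  have ha11 : a₁ ∈ S.P 1 := by
    simpa using (S.P 1).sub_mem ha1 (S.P_succ_le (n := 1) le_rfl ha₂)
  refine Submodule.add_mem_sup ?_ ((S.P 4).add_mem (S.mul_mem_P (i := 1) (j := 3) ha11 hb₂)
    (S.mul_mem_P (i := 2) (j := 2) ha₂ hb))
  have h := Submodule.mul_mem_mul ha₁ hb₁
  rwa [Submodule.span_mul_span] at h

/-- The bound of Chlebowitz and Külshammer. -/
theorem finrank_le_ten [IsAlgClosed k] (S : Data k A) (h5 : finrank k (Subalgebra.center k A) = 5) :
    finrank k A ≤ 10 := by
  classical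
  have hdim : finrank k A = finrank k S.K + 5 := h5 ▸ S.finrank_eq
  have hJ := S.finrank_J
  obtain ⟨N, hN, hne⟩ := S.exists_length
  have hKzero : S.K = ⊥ → finrank k A ≤ 10 := fun h => by
    rw [h, finrank_bot] at hdim; omega
  by_cases h2 : S.P 2 = ⊥
  · exact hKzero (le_bot_iff.1 (h2 ▸ S.K_le))
  have hN2 : 2 ≤ N := by
    by_contra hlt
    exact h2 (S.P_eq_bot hN (by omega))
  have hKlt : finrank k S.K < finrank k (S.P 2) :=
    Submodule.finrank_lt_finrank_of_lt (lt_of_le_of_ne S.K_le fun h =>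
      S.not_P_le_K hN (n := 2) (by omega) hN2 hne h.ge)
  by_cases h3 : S.P 3 = ⊥
  · have := S.P_top_finrank (N := 2) h3
    exact hKzero (Submodule.finrank_eq_zero.1 (by omega))
  have hN3 : 3 ≤ N := by
    by_contra hlt
    exact h3 (S.P_eq_bot hN (by omega))
  by_cases hthin : ∃ w, S.P 2 ≤ Submodule.span k {w} ⊔ S.P 3
  · obtain ⟨w, hw⟩ := hthin
    refine hKzero (Submodule.span_eq_bot.2 ?_)
    rintro _ ⟨a, b, rfl⟩
    exact sub_eq_zero.2 (S.comm_of_thin hN h3 hw a b)
  have h12 : S.P 2 ≤ S.P 1 := S.P_succ_le le_rfl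
  have hP1 : finrank k (S.P 1) = finrank k S.K + 4 := by rw [S.P_one]; omega
  have hm2 : finrank k (S.P 2) + 2 ≤ finrank k (S.P 1) := by
    by_contra hlt
    apply hthin
    by_cases hle : S.P 1 ≤ S.P 2
    · exact absurd (le_bot_iff.1 (h12.trans (S.P_eq_bot_of_le le_rfl hle).le)) h2
    obtain ⟨a, ha, ha2⟩ := SetLike.not_le_iff_exists.1 hle
    have h1 : finrank k (S.P 2) < finrank k ↥(Submodule.span k {a} ⊔ S.P 2) :=
      Submodule.finrank_lt_finrank_of_lt (lt_of_le_of_ne le_sup_right fun he => ha2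
        (he.symm ▸ Submodule.mem_sup_left (Submodule.mem_span_singleton_self a)))
    have hJa := (Submodule.eq_of_le_of_finrank_le
      (sup_le ((Submodule.span_singleton_le_iff_mem _ _).2 ha) h12) (by omega)).ge
    refine ⟨a * a, S.P2_le_of_mul fun p hp q hq => ?_⟩
    obtain ⟨p₁, hp₁, p₂, hp₂, rfl⟩ := Submodule.mem_sup.1 (hJa hp)
    obtain ⟨q₁, hq₁, q₂, hq₂, rfl⟩ := Submodule.mem_sup.1 (hJa hq)
    obtain ⟨r, rfl⟩ := Submodule.mem_span_singleton.1 hp₁
    obtain ⟨s, rfl⟩ := Submodule.mem_span_singleton.1 hq₁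
    rw [add_mul, mul_add, add_assoc]
    refine Submodule.add_mem_sup ?_ ((S.P 3).add_mem
      (S.mul_mem_P (i := 1) (j := 2) ((S.P 1).smul_mem _ ha) hq₂)
      (S.mul_mem_P (i := 2) (j := 1) hp₂ hq))
    exact Submodule.mem_span_singleton.2 ⟨s * r, by rw [smul_mul_assoc, mul_smul_comm, smul_smul,
      mul_comm]⟩
  have hPN : 1 ≤ finrank k (S.P N) := Submodule.one_le_finrank_iff.2 hne
  have hPN1 := S.P_top_finrank hN
  rcases (show finrank k (S.P 1) = finrank k (S.P 2) + 2 ∨ finrank k (S.P 1) = finrank k (S.P 2) + 3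
    by omega) with hm | hm
  · -- two generators
    have hc : finrank k (S.P 2) = finrank k S.K + 2 := by omega
    obtain ⟨g, hg, hgJ⟩ := exists_span_compl h12 hm
    have hgJ' : S.P 1 ≤ Submodule.span k {g 0, g 1} ⊔ S.P 2 := hgJ.trans (sup_le_sup_right
      (Submodule.span_mono (by rintro _ ⟨i, rfl⟩; fin_cases i <;> simp)) _)
    set u := g 0 * g 1 - g 1 * g 0 with hudef
    have hKu : S.K ≤ Submodule.span k {u} ⊔ S.P 3 :=
      (S.K_le_span hgJ' (T := Submodule.span k {u}) (by
        rintro p (rfl | rfl) q (rfl | rfl) <;>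
          first
          | (rw [sub_self]; exact Submodule.zero_mem _)
          | exact Submodule.mem_span_singleton_self _
          | (rw [← neg_sub]; exact Submodule.neg_mem _ (Submodule.mem_span_singleton_self _)))).trans
        (sup_le_sup_left (S.C_le 2) _)
    have h23 : S.P 3 ≤ S.P 2 := S.P_succ_le (by omega)
    have hu3 : u ∉ S.P 3 := by
      intro hu
      apply hthin
      refine S.thin_of_finrank_le ?_
      have h1 : S.K ≤ S.P 3 :=
        hKu.trans (sup_le ((Submodule.span_singleton_le_iff_mem _ _).2 hu) le_rfl)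
      have := Submodule.finrank_lt_finrank_of_lt (lt_of_le_of_ne h1 fun h =>
        S.not_P_le_K hN (n := 3) (by omega) hN3 hne h.ge)
      omega
    have h23' : finrank k (S.P 3) + 2 ≤ finrank k (S.P 2) := by
      by_contra hlt
      exact hthin (S.thin_of_finrank_le (by omega))
    have hsup : finrank k ↥(S.K ⊔ S.P 3) ≤ finrank k (S.P 3) + 1 := by
      refine (Submodule.finrank_mono (sup_le hKu le_sup_right)).trans
        ((Submodule.finrank_add_le_finrank_add_finrank _ _).trans ?_)
      have := finrank_span_le_card (R := k) ({u} : Set A)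
      simp only [Set.toFinset_singleton, Finset.card_singleton] at this
      omega
    have hle3 : (S.K ⊓ S.P 3) ⊔ S.P N ≤ S.P 3 := sup_le inf_le_right (S.P_anti (by omega) hN3)
    have hdisj : Disjoint (S.K ⊓ S.P 3) (S.P N) :=
      (S.P_top_disjoint hN).symm.mono_left inf_le_left
    have e1 := Submodule.finrank_sup_add_finrank_inf_eq (S.K ⊓ S.P 3) (S.P N)
    rw [hdisj.eq_bot, finrank_bot] at e1
    have e2 := Submodule.finrank_mono hle3
    have e3 := Submodule.finrank_sup_add_finrank_inf_eq S.K (S.P 3)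
    have hP3e : finrank k (S.P 3) = finrank k S.K := by omega
    have hP3K : S.P 3 ≤ S.K ⊔ S.P N :=
      (Submodule.eq_of_le_of_finrank_le hle3 (by omega)).ge.trans (sup_le_sup_right inf_le_left _)
    have hr : finrank k (S.P 2) = finrank k (S.P 3) + 2 := by omega
    rcases (show N = 3 ∨ N = 4 ∨ 5 ≤ N by omega) with h | h | h
    · subst h; omega
    · subst h
      obtain ⟨v, hv, hvP⟩ := exists_span_compl h23 hr
      have h34 := S.P3_le_span hgJ hvP
      have h4 := (Submodule.finrank_mono h34).trans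
        (Submodule.finrank_add_le_finrank_add_finrank _ _)
      have hfin : Set.image2 (fun a b : A => a * b) (Set.range g) (Set.range v)
          = Set.range fun ij : Fin 2 × Fin 2 => g ij.1 * v ij.2 := by
        ext z
        constructor
        · rintro ⟨_, ⟨i, rfl⟩, _, ⟨j, rfl⟩, rfl⟩; exact ⟨(i, j), rfl⟩
        · rintro ⟨⟨i, j⟩, rfl⟩; exact ⟨_, ⟨i, rfl⟩, _, ⟨j, rfl⟩, rfl⟩
      rw [hfin] at h4
      have h5' : finrank k (Submodule.span k
          (Set.range fun ij : Fin 2 × Fin 2 => g ij.1 * v ij.2)) ≤ 4 := by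
        simpa [Set.finrank] using
          finrank_range_le_card (R := k) fun ij : Fin 2 × Fin 2 => g ij.1 * v ij.2
      omega
    · let L : Lay k A := { toData := S, N := N, top := hN, ne := hne, four := by omega }
      exact (L.false_of_two h (hg 0) (hg 1) hgJ' hu3 hP3K hm hr).elim
  · -- three generators
    have hc : finrank k (S.P 2) = finrank k S.K + 1 := by omega
    obtain ⟨g, hg, hgJ⟩ := exists_span_compl h12 hm
    have hgJ' : S.P 1 ≤ Submodule.span k {g 0, g 1, g 2} ⊔ S.P 2 := hgJ.trans (sup_le_sup_right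
      (Submodule.span_mono (by rintro _ ⟨i, rfl⟩; fin_cases i <;> simp)) _)
    have hle2 : S.K ⊔ S.P N ≤ S.P 2 := sup_le S.K_le (S.P_anti (by omega) hN2)
    have e1 := Submodule.finrank_sup_add_finrank_inf_eq S.K (S.P N)
    rw [(S.P_top_disjoint hN).symm.eq_bot, finrank_bot] at e1
    have hP2K : S.P 2 ≤ S.K ⊔ S.P N :=
      (Submodule.eq_of_le_of_finrank_le hle2 (by omega)).ge
    rcases (show N = 3 ∨ 4 ≤ N by omega) with h | h
    · subst h
      let T : Fin 3 → A := ![g 0 * g 1 - g 1 * g 0, g 0 * g 2 - g 2 * g 0, g 1 * g 2 - g 2 * g 1]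
      have m : ∀ i, T i ∈ Submodule.span k (Set.range T) := fun i =>
        Submodule.subset_span ⟨i, rfl⟩
      have m0 : g 0 * g 1 - g 1 * g 0 ∈ Submodule.span k (Set.range T) := m 0
      have m1 : g 0 * g 2 - g 2 * g 0 ∈ Submodule.span k (Set.range T) := m 1
      have m2 : g 1 * g 2 - g 2 * g 1 ∈ Submodule.span k (Set.range T) := m 2
      have hK : S.K ≤ Submodule.span k (Set.range T) ⊔ S.P 3 :=
        (S.K_le_span hgJ' (T := Submodule.span k (Set.range T)) (by
          rintro p (rfl | rfl | rfl) q (rfl | rfl | rfl) <;>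
            first
            | (rw [sub_self]; exact Submodule.zero_mem _)
            | assumption
            | (rw [← neg_sub]; exact Submodule.neg_mem _ (by assumption)))).trans
          (sup_le_sup_left (S.C_le 2) _)
      have h4 := (Submodule.finrank_mono (hP2K.trans (sup_le hK le_sup_right))).trans
        (Submodule.finrank_add_le_finrank_add_finrank _ _)
      have h5' : finrank k (Submodule.span k (Set.range T)) ≤ 3 := by
        simpa [Set.finrank] using finrank_range_le_card (R := k) T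
      omega
    · let L : Lay k A := { toData := S, N := N, top := hN, ne := hne, four := h }
      exact (L.false_of_three (hg 0) (hg 1) (hg 2) hgJ' hP2K).elim

end Data

end CfsgLib.LocalSym5
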