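import Mathlib

/-!
# Twisted symmetric algebras of dimension two and three
-/

set_option autoImplicit false
set_option linter.unusedSectionVars false

namespace CfsgLib.LocalSym5

open Module

/-- The multiplication of two stable layers of a graded symmetric algebra generated by `x`. -/
structure Twist (k V : Type*) [Field k] [AddCommGroup V] [Module k V] where
  μ : V →ₗ[k] V →ₗ[k] V
  x : V
  σ : V →ₗ[k] V
  lam : Dual k V
  n : ℕ
  x_mul : ∀ v, μ x v = v
  mul_x : ∀ v, μ v x = σ v
  assoc : ∀ u v w, μ (μ u v) w = μ (σ u) (μ v w)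
  cyc : ∀ u v, lam (μ u v) = lam (μ ((σ ^ n) v) u)
  nondeg : ∀ u, (∀ v, lam (μ u v) = 0) → u = 0

namespace Twist

variable {k V : Type*} [Field k] [AddCommGroup V] [Module k V] [FiniteDimensional k V]
  (T : Twist k V)

theorem σ_x : T.σ T.x = T.x := by rw [← T.mul_x, T.x_mul]

theorem σ_μ (u v : V) : T.σ (T.μ u v) = T.μ (T.σ u) (T.σ v) := by
  rw [← T.mul_x, T.assoc, T.mul_x]

theorem lam_σ (u : V) : T.lam (T.σ u) = T.lam u := by
  have h : ∀ m : ℕ, (T.σ ^ m) T.x = T.x := fun m => by
    induction m with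
    | zero => rfl
    | succ m ih => rw [pow_succ', Module.End.mul_apply, ih, T.σ_x]
  have := T.cyc u T.x
  rwa [T.mul_x, h, T.x_mul] at this

theorem σ_inj : Function.Injective T.σ := (injective_iff_map_eq_zero T.σ).2 fun u hu =>
  T.nondeg u fun v => by rw [← T.lam_σ, T.σ_μ, hu, map_zero, LinearMap.zero_apply, map_zero]

/-- The twist as an equivalence. -/
noncomputable def σe : V ≃ₗ[k] V :=
  LinearEquiv.ofBijective T.σ ⟨T.σ_inj, LinearMap.injective_iff_surjective.1 T.σ_inj⟩

theorem σ_symm (v : V) : T.σ (T.σe.symm v) = v := T.σe.apply_symm_apply v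

/-- The untwisted product. -/
noncomputable def mul : V →ₗ[k] V →ₗ[k] V := T.μ.comp T.σe.symm.toLinearMap

theorem μ_eq (u v : V) : T.μ u v = T.mul (T.σ u) v := by
  show T.μ u v = T.μ (T.σe.symm (T.σ u)) v
  rw [show T.σe.symm (T.σ u) = u from T.σe.symm_apply_apply u]

theorem one_mul' (v : V) : T.mul T.x v = v := by
  rw [show T.mul T.x v = T.mul (T.σ T.x) v by rw [T.σ_x], ← T.μ_eq, T.x_mul]

theorem mul_one' (v : V) : T.mul v T.x = v := by
  conv_lhs => rw [← T.σ_symm v, ← T.μ_eq, T.mul_x, T.σ_symm]

theorem mul_assoc' (a b c : V) : T.mul (T.mul a b) c = T.mul a (T.mul b c) := by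
  obtain ⟨u', rfl⟩ := T.σe.surjective a
  obtain ⟨v, rfl⟩ := T.σe.surjective b
  obtain ⟨u, rfl⟩ := T.σe.surjective u'
  show T.mul (T.mul (T.σ (T.σ u)) (T.σ v)) c = T.mul (T.σ (T.σ u)) (T.mul (T.σ v) c)
  rw [← T.μ_eq, ← T.σ_μ, ← T.μ_eq, T.assoc, ← T.μ_eq, ← T.μ_eq]

theorem σ_mul (a b : V) : T.σ (T.mul a b) = T.mul (T.σ a) (T.σ b) := by
  obtain ⟨u, rfl⟩ := T.σe.surjective a
  show T.σ (T.mul (T.σ u) b) = T.mul (T.σ (T.σ u)) (T.σ b)
  rw [← T.μ_eq, T.σ_μ, ← T.μ_eq]

theorem lam_mul_ne {a : V} (ha : a ≠ 0) : ∃ b, T.lam (T.mul a b) ≠ 0 := by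
  by_contra h
  push Not at h
  refine ha ?_
  rw [← T.σ_symm a, T.nondeg (T.σe.symm a) h, map_zero]

theorem σ_smul_x (c : k) : T.σ (c • T.x) = c • T.x := by rw [map_smul, T.σ_x]

theorem comm_of_span {p : V} (hp : ∀ v, v ∈ Submodule.span k {T.x, p, T.mul p p}) (a b : V) :
    T.mul a b = T.mul b a := by
  have h1 : ∀ a, T.mul p a = T.mul a p := fun a => by
    refine Submodule.span_induction (p := fun a _ => T.mul p a = T.mul a p) ?_ ?_ ?_ ?_ (hp a)
    · rintro a (rfl | rfl | rfl)
      · rw [T.one_mul', T.mul_one']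
      · rfl
      · rw [T.mul_assoc']
    · simp
    · intro u v _ _ hu hv; rw [map_add, hu, hv, map_add, LinearMap.add_apply]
    · intro r u _ hu; rw [map_smul, hu, map_smul, LinearMap.smul_apply]
  refine Submodule.span_induction (p := fun a _ => T.mul a b = T.mul b a) ?_ ?_ ?_ ?_ (hp a)
  · rintro a (rfl | rfl | rfl)
    · rw [T.one_mul', T.mul_one']
    · exact h1 b
    · rw [T.mul_assoc', h1 b, ← T.mul_assoc', h1 b, T.mul_assoc']
  · simp
  · intro u v _ _ hu hv; rw [map_add, LinearMap.add_apply, hu, hv, map_add]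
  · intro r u _ hu; rw [map_smul, LinearMap.smul_apply, hu, map_smul]

/-- An idempotent exchanged with its complement halves the dimension. -/
theorem even_of_idem {e : V} (he : T.mul e e = e) (hσ : T.σ e = T.x - e) :
    Even (finrank k V) := by
  set f := T.x - e with hf
  have hσf : T.σ f = e := by rw [hf, map_sub, T.σ_x, hσ, hf, sub_sub_cancel]
  have hef : T.mul e f = 0 := by rw [hf, map_sub, T.mul_one', he, sub_self]
  set R₁ := LinearMap.range (T.mul e)
  set R₂ := LinearMap.range (T.mul f)
  have h12 : R₁.map T.σ ≤ R₂ := by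
    rintro _ ⟨_, ⟨v, rfl⟩, rfl⟩
    exact ⟨T.σ v, by rw [T.σ_mul, hσ]⟩
  have h21 : R₂.map T.σ ≤ R₁ := by
    rintro _ ⟨_, ⟨v, rfl⟩, rfl⟩
    exact ⟨T.σ v, by rw [T.σ_mul, hσf]⟩
  have e1 := Submodule.finrank_mono h12
  have e2 := Submodule.finrank_mono h21
  have m : ∀ R : Submodule k V, finrank k (R.map T.σ) = finrank k R := fun R =>
    (Submodule.equivMapOfInjective T.σ T.σ_inj R).finrank_eq.symm
  rw [m] at e1 e2
  have hinf : R₁ ⊓ R₂ = ⊥ := (Submodule.eq_bot_iff _).2 fun w hw => by
    obtain ⟨⟨u, hu⟩, ⟨v, hv⟩⟩ := Submodule.mem_inf.1 hw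
    have h1 : T.mul e w = w := by rw [← hu, ← T.mul_assoc', he]
    rw [← h1, ← hv, ← T.mul_assoc', hef, map_zero, LinearMap.zero_apply]
  have hsup : R₁ ⊔ R₂ = ⊤ := eq_top_iff.2 fun w _ => by
    have : w = T.mul e w + T.mul f w := by
      rw [← LinearMap.add_apply, ← map_add, hf, add_sub_cancel, T.one_mul']
    rw [this]
    exact Submodule.add_mem_sup ⟨w, rfl⟩ ⟨w, rfl⟩
  have h := Submodule.finrank_sup_add_finrank_inf_eq R₁ R₂
  rw [hinf, hsup, finrank_bot, finrank_top] at h
  exact ⟨finrank k R₁, by omega⟩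

variable [IsAlgClosed k]

/-- An element outside `k x` which is an eigenvector, modulo `k x`, of the twist. -/
theorem exists_eigen (h : 2 ≤ finrank k V) :
    ∃ (p : V) (η d : k), p ∉ Submodule.span k {T.x} ∧ T.σ p = η • p + d • T.x := by
  set X := Submodule.span k {T.x}
  have hX : X ≤ X.comap T.σ := (Submodule.span_singleton_le_iff_mem _ _).2 (by
    rw [Submodule.mem_comap, T.σ_x]; exact Submodule.mem_span_singleton_self _)
  have : Nontrivial (V ⧸ X) := by
    refine Submodule.Quotient.nontrivial_iff.2 fun htop => ?_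
    have h1 := finrank_span_le_card (R := k) ({T.x} : Set V)
    rw [show Submodule.span k ({T.x} : Set V) = X from rfl, htop, finrank_top] at h1
    simp at h1
    omega
  obtain ⟨η, hη⟩ := Module.End.exists_eigenvalue (X.mapQ X T.σ hX)
  obtain ⟨q, hq⟩ := hη.exists_hasEigenvector
  obtain ⟨p, rfl⟩ := Submodule.Quotient.mk_surjective X q
  have h2 := hq.apply_eq_smul
  rw [Submodule.mapQ_apply, ← Submodule.Quotient.mk_smul, Submodule.Quotient.eq,
    Submodule.mem_span_singleton] at h2
  obtain ⟨d, hd⟩ := h2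
  exact ⟨p, η, d, fun hp => hq.2 ((Submodule.Quotient.mk_eq_zero X).2 hp),
    by rw [hd]; abel⟩

theorem indep_x {p : V} (hp : p ∉ Submodule.span k {T.x}) (hx : T.x ≠ 0) :
    LinearIndependent k ![T.x, p] := by
  refine (LinearIndependent.pair_iff' hx).2 fun a ha => hp ?_
  exact ha ▸ Submodule.smul_mem _ _ (Submodule.mem_span_singleton_self _)

theorem x_ne [Nontrivial V] : T.x ≠ 0 := fun h => by
  obtain ⟨v, hv⟩ := exists_ne (0 : V)
  exact hv (by rw [← T.x_mul v, h, map_zero, LinearMap.zero_apply])

theorem coeff_eq {p : V} (hp : p ∉ Submodule.span k {T.x}) (hx : T.x ≠ 0) {a b a' b' : k}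
    (h : a • T.x + b • p = a' • T.x + b' • p) : a = a' ∧ b = b' := by
  obtain ⟨h1, h2⟩ := LinearIndependent.pair_iff.1 (T.indep_x hp hx) (a - a') (b - b') (by
    rw [sub_smul, sub_smul, sub_add_sub_comm, h, sub_self])
  exact ⟨sub_eq_zero.1 h1, sub_eq_zero.1 h2⟩

/-- A normal form of a quadratic element. -/
theorem quadratic_cases {p : V} {η d α β : k} (hx : T.x ≠ 0)
    (hp : p ∉ Submodule.span k {T.x}) (hσ : T.σ p = η • p + d • T.x)
    (hnorm : η ≠ 1 → d = 0) (hsq : T.mul p p = α • T.x + β • p) :
    (η = 1 ∧ (d = 0 ∨ ((2 : k) = 0 ∧ β = d))) ∨ (η ≠ 1 ∧ β = 0 ∧ (α = 0 ∨ η * η = 1)) ∨ η = 0 := by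
  have h := T.σ_mul p p
  rw [hsq, hσ, map_add, map_smul, map_smul, T.σ_x, hσ] at h
  simp only [map_add, map_smul, LinearMap.add_apply, LinearMap.smul_apply, T.one_mul',
    T.mul_one', hsq, smul_add, smul_smul] at h
  have h' : (α + β * d) • T.x + (β * η) • p
      = (η * η * α + d * d) • T.x + (η * η * β + η * d + d * η) • p := by
    refine Eq.trans ?_ (h.trans ?_) <;> module
  obtain ⟨hA, hB⟩ := T.coeff_eq hp hx h'
  by_cases hη : η = 1
  · subst hη
    refine Or.inl ⟨rfl, ?_⟩
    have h2 : (2 : k) * d = 0 := by linear_combination -hB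
    rcases mul_eq_zero.1 h2 with h2 | h2
    · by_cases hd : d = 0
      · exact Or.inl hd
      · refine Or.inr ⟨h2, mul_left_cancel₀ hd ?_⟩
        linear_combination hA
    · exact Or.inl h2
  · right
    have hd := hnorm hη
    by_cases hη0 : η = 0
    · exact Or.inr hη0
    refine Or.inl ⟨hη, ?_, ?_⟩
    · have : β * (η * (1 - η)) = 0 := by rw [hd] at hB; linear_combination hB
      exact (mul_eq_zero.1 this).resolve_right
        (mul_ne_zero hη0 (sub_ne_zero.2 (Ne.symm hη)))
    · have : α * (1 - η * η) = 0 := by rw [hd] at hA; linear_combination hA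
      rcases mul_eq_zero.1 this with h1 | h1
      · exact Or.inl h1
      · exact Or.inr (sub_eq_zero.1 h1).symm

theorem exists_normal (h : 2 ≤ finrank k V) :
    ∃ (p : V) (η d : k), p ∉ Submodule.span k {T.x} ∧ T.σ p = η • p + d • T.x ∧ η ≠ 0 ∧
      (η ≠ 1 → d = 0) ∧ (η = 1 → d = 0 ∨ d = 1) := by
  obtain ⟨p, η, d, hp, hσ⟩ := T.exists_eigen h
  have hη0 : η ≠ 0 := fun h0 => hp (by
    rw [Submodule.mem_span_singleton]
    exact ⟨d, T.σ_inj (by rw [T.σ_smul_x, hσ, h0, zero_smul, zero_add])⟩)
  by_cases hη : η = 1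
  · subst hη
    by_cases hd : d = 0
    · exact ⟨p, 1, d, hp, hσ, hη0, fun _ => hd, fun _ => Or.inl hd⟩
    · refine ⟨d⁻¹ • p, 1, 1, fun hmem => hp ?_, ?_, hη0, fun h1 => absurd rfl h1,
        fun _ => Or.inr rfl⟩
      · simpa [smul_smul, hd] using Submodule.smul_mem _ d hmem
      · simp [map_smul, hσ, smul_add, smul_smul, hd]
  · refine ⟨p + (d / (η - 1)) • T.x, η, 0, fun hmem => hp ?_, ?_, hη0, fun _ => rfl,
      fun h1 => absurd h1 hη⟩
    · simpa using Submodule.sub_mem _ hmem
        (Submodule.smul_mem _ (d / (η - 1)) (Submodule.mem_span_singleton_self T.x))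
    · have he : (d / (η - 1)) * η = d + d / (η - 1) := by
        field_simp [sub_ne_zero.2 hη]
        ring
      rw [map_add, T.σ_smul_x, hσ, zero_smul, add_zero, smul_add, smul_smul, mul_comm η, he]
      module

theorem three (h3 : finrank k V = 3) (hfix : ∀ v, T.σ v = v → v ∈ Submodule.span k {T.x}) :
    (∀ a b, T.mul a b = T.mul b a) ∧ ∀ v, T.σ (T.σ (T.σ v)) = v := by
  have : Nontrivial V := Module.nontrivial_of_finrank_eq_succ h3
  have hx := T.x_ne
  obtain ⟨p, η, d, hp, hσ, hη0, hnorm, hone⟩ := T.exists_normal (by omega)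
  by_cases hdep : T.mul p p ∈ Submodule.span k {T.x, p}
  · exfalso
    obtain ⟨α, β, hsq⟩ := Submodule.mem_span_pair.1 hdep
    rcases T.quadratic_cases hx hp hσ hnorm hsq.symm with ⟨rfl, hd | ⟨h2, hβ⟩⟩ | ⟨hη, rfl, hα⟩ | h0
    · exact hp (hfix p (by rw [hσ, hd, zero_smul, add_zero, one_smul]))
    · -- an idempotent in characteristic two
      rcases hone rfl with rfl | rfl
      · exact hp (hfix p (by rw [hσ, zero_smul, add_zero, one_smul]))
      subst hβ
      obtain ⟨c, hc⟩ := IsAlgClosed.exists_root
        (Polynomial.X ^ 2 - Polynomial.X + Polynomial.C α : Polynomial k) (by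
          rw [Polynomial.degree_add_C] <;> rw [Polynomial.degree_sub_eq_left_of_degree_lt] <;> simp)
      have hc' : c * c - c + α = 0 := by simpa [pow_two] using hc
      have he : T.mul (p + c • T.x) (p + c • T.x) = p + c • T.x := by
        simp only [map_add, map_smul, LinearMap.add_apply, LinearMap.smul_apply, T.one_mul',
          T.mul_one', ← hsq]
        match_scalars
        · linear_combination hc'
        · linear_combination c * h2
      have hσe : T.σ (p + c • T.x) = T.x - (p + c • T.x) := by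
        rw [map_add, T.σ_smul_x, hσ]
        match_scalars
        · linear_combination h2
        · linear_combination c * h2
      have := T.even_of_idem he hσe
      rw [h3] at this
      exact absurd this (by decide)
    · have hd := hnorm hη
      subst hd
      rw [zero_smul, add_zero] at hσ
      have hlp : T.lam p = 0 := by
        have h := T.lam_σ p
        rw [hσ, map_smul, smul_eq_mul] at h
        have : (η - 1) * T.lam p = 0 := by linear_combination h
        exact (mul_eq_zero.1 this).resolve_left (sub_ne_zero.2 hη)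
      rw [zero_smul, add_zero] at hsq
      by_cases hα0 : α = 0
      · -- `p * p = 0`
        rw [hα0, zero_smul] at hsq
        obtain ⟨q, hq⟩ := T.lam_mul_ne (a := p) (fun h => hp (h ▸ Submodule.zero_mem _))
        have hqs : q ∉ Submodule.span k (Set.range ![T.x, p]) := fun hmem => by
          rw [Matrix.range_cons_cons_empty, Submodule.mem_span_pair] at hmem
          obtain ⟨a, b, rfl⟩ := hmem
          exact hq (by simp [map_add, map_smul, T.mul_one', ← hsq, hlp])
        have hind : LinearIndependent k ![T.x, p, q] := by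
          have h := (T.indep_x hp hx).finSnoc hqs
          convert h using 1
          funext i; fin_cases i <;> rfl
        have hspan : T.mul p q ∈ Submodule.span k (Set.range ![T.x, p, q]) := by
          rw [hind.span_eq_top_of_card_eq_finrank (by simp [h3])]; trivial
        obtain ⟨g, hg⟩ := (Submodule.mem_span_range_iff_exists_fun k).1 hspan
        simp only [Fin.sum_univ_three, Matrix.cons_val_zero, Matrix.cons_val_one, Matrix.head_cons,
          Matrix.cons_val_two, Matrix.tail_cons] at hg
        have h := congrArg (T.mul p) hg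
        rw [← T.mul_assoc', ← hsq, map_zero, LinearMap.zero_apply] at h
        simp only [map_add, map_smul, T.mul_one', ← hsq, smul_zero, add_zero, ← hg, smul_add,
          smul_smul] at h
        have hz := Fintype.linearIndependent_iff.1 hind ![g 2 * g 0, g 0 + g 2 * g 1, g 2 * g 2] (by
          simp only [Fin.sum_univ_three, Matrix.cons_val_zero, Matrix.cons_val_one, Matrix.head_cons,
            Matrix.cons_val_two, Matrix.tail_cons]
          rw [← h]; module)
        have g2 : g 2 = 0 := mul_self_eq_zero.1 (by simpa using hz 2)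
        have g0 : g 0 = 0 := by simpa [g2] using hz 1
        refine hq ?_
        rw [← hg, g0, g2]
        simp [hlp]
      · -- `η = -1` and an idempotent
        have hηη := hα.resolve_left hα0
        have hη1 : η = -1 := (mul_self_eq_one_iff.1 hηη).resolve_left hη
        have h2 : (2 : k) ≠ 0 := fun h => hη (by rw [hη1]; linear_combination -h)
        obtain ⟨r, hr⟩ := IsAlgClosed.exists_eq_mul_self α
        have hr0 : r ≠ 0 := fun h => hα0 (by rw [hr, h, mul_zero])
        set e := (2 : k)⁻¹ • (T.x + r⁻¹ • p) with hedef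
        have he : T.mul e e = e := by
          simp only [hedef, map_add, map_smul, LinearMap.add_apply, LinearMap.smul_apply,
            T.one_mul', T.mul_one', ← hsq, smul_add, smul_smul]
          match_scalars <;> field_simp <;> (try rw [hr]) <;> ring
        have hσe : T.σ e = T.x - e := by
          simp only [hedef, map_add, map_smul, T.σ_x, hσ, hη1, smul_add, smul_smul]
          match_scalars <;> field_simp <;> ring
        have := T.even_of_idem he hσe
        rw [h3] at this
        exact absurd this (by decide)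
    · exact hη0 h0
  · have hind : LinearIndependent k ![T.x, p, T.mul p p] := by
      have h := (T.indep_x hp hx).finSnoc (x := T.mul p p) (by rwa [Matrix.range_cons_cons_empty])
      convert h using 1
      funext i; fin_cases i <;> rfl
    have htop := hind.span_eq_top_of_card_eq_finrank (by simp [h3])
    have hset : Set.range ![T.x, p, T.mul p p] = {T.x, p, T.mul p p} := by
      simp [Set.pair_comm, Set.insert_comm, Matrix.range_cons, Matrix.range_empty]
    rw [hset] at htop
    have hall : ∀ v, v ∈ Submodule.span k {T.x, p, T.mul p p} := fun v => by rw [htop]; trivial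
    refine ⟨T.comm_of_span hall, ?_⟩
    suffices hp3 : T.σ (T.σ (T.σ p)) = p by
      intro v
      refine Submodule.span_induction (p := fun v _ => T.σ (T.σ (T.σ v)) = v) ?_ ?_ ?_ ?_ (hall v)
      · rintro v (rfl | rfl | rfl)
        · rw [T.σ_x, T.σ_x, T.σ_x]
        · exact hp3
        · rw [T.σ_mul, T.σ_mul, T.σ_mul, hp3]
      · simp
      · intro u v _ _ hu hv; rw [map_add, map_add, map_add, hu, hv]
      · intro r u _ hu; rw [map_smul, map_smul, map_smul, hu]
    obtain ⟨g, hg⟩ := (Submodule.mem_span_range_iff_exists_fun k).1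
      (show T.mul p (T.mul p p) ∈ Submodule.span k (Set.range ![T.x, p, T.mul p p]) by
        rw [hset, htop]; trivial)
    simp only [Fin.sum_univ_three, Matrix.cons_val_zero, Matrix.cons_val_one, Matrix.head_cons,
      Matrix.cons_val_two, Matrix.tail_cons] at hg
    have h := congrArg T.σ hg
    simp only [T.σ_mul, hσ, map_add, map_smul, T.σ_x, LinearMap.add_apply, LinearMap.smul_apply,
      T.one_mul', T.mul_one', smul_add, smul_smul] at h
    rw [← hg] at h
    have hz := Fintype.linearIndependent_iff.1 hind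
      ![η * η * η * g 0 + d * d * d - g 0 - g 1 * d - g 2 * d * d,
        η * η * η * g 1 + 3 * η * d * d - g 1 * η - 2 * g 2 * η * d,
        η * η * η * g 2 + 3 * η * η * d - g 2 * η * η] (by
      simp only [Fin.sum_univ_three, Matrix.cons_val_zero, Matrix.cons_val_one, Matrix.head_cons,
        Matrix.cons_val_two, Matrix.tail_cons]
      rw [← sub_eq_zero] at h
      rw [← neg_eq_zero, ← h]
      module)
    have e0 : η * η * η * g 0 + d * d * d - g 0 - g 1 * d - g 2 * d * d = 0 := by simpa using hz 0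
    have e1 : η * η * η * g 1 + 3 * η * d * d - g 1 * η - 2 * g 2 * η * d = 0 := by simpa using hz 1
    have e2 : η * η * η * g 2 + 3 * η * η * d - g 2 * η * η = 0 := by simpa using hz 2
    by_cases hη : η = 1
    · subst hη
      rcases hone rfl with rfl | rfl
      · exact absurd (hfix p (by rw [hσ, zero_smul, add_zero, one_smul])) hp
      · have h33 : (3 : k) = 0 := by linear_combination e2
        simp only [hσ, map_add, one_smul, T.σ_x]
        have h3x : (3 : k) • T.x = 0 := by rw [h33, zero_smul]
        linear_combination (norm := module) h3x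
    · have hd := hnorm hη
      subst hd
      rw [zero_smul, add_zero] at hσ
      simp only [hσ, map_smul, smul_smul]
      suffices hηηη : η * η * η = 1 by rw [hηηη, one_smul]
      have hη2 : η * η ≠ 1 := fun h2 => hdep (by
        have := hfix (T.mul p p) (by
          rw [T.σ_mul, hσ, map_smul, map_smul, LinearMap.smul_apply, smul_smul, h2, one_smul])
        exact Submodule.span_mono (by simp) this)
      by_contra h3η
      have g0 : g 0 = 0 := by
        have : (η * η * η - 1) * g 0 = 0 := by linear_combination e0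
        exact (mul_eq_zero.1 this).resolve_left (sub_ne_zero.2 h3η)
      have g1 : g 1 = 0 := by
        have : (η * η - 1) * (η * g 1) = 0 := by linear_combination e1
        exact (mul_eq_zero.1 ((mul_eq_zero.1 this).resolve_left (sub_ne_zero.2 hη2))).resolve_left hη0
      have g2 : g 2 = 0 := by
        have : (η - 1) * (η * η * g 2) = 0 := by linear_combination e2
        exact (mul_eq_zero.1 ((mul_eq_zero.1 this).resolve_left (sub_ne_zero.2 hη))).resolve_left
          (mul_ne_zero hη0 hη0)
      rw [g0, g1, g2] at hg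
      simp only [zero_smul, add_zero] at hg
      have hl2 : T.lam (T.mul p p) = 0 := by
        have h := T.lam_σ (T.mul p p)
        simp only [T.σ_mul, hσ, map_smul, LinearMap.smul_apply, smul_eq_mul] at h
        have : (η * η - 1) * T.lam (T.mul p p) = 0 := by linear_combination h
        exact (mul_eq_zero.1 this).resolve_left (sub_ne_zero.2 hη2)
      obtain ⟨b, hb⟩ := T.lam_mul_ne (a := T.mul p p)
        (fun h0 => hdep (h0 ▸ Submodule.zero_mem _))
      refine hb (Submodule.span_induction (p := fun b _ => T.lam (T.mul (T.mul p p) b) = 0)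
        ?_ ?_ ?_ ?_ (hall b))
      · rintro b (rfl | rfl | rfl)
        · rw [T.mul_one', hl2]
        · rw [T.mul_assoc', ← hg, map_zero]
        · rw [T.mul_assoc', ← hg, map_zero, map_zero]
      · simp
      · intro u v _ _ hu hv; rw [map_add, map_add, hu, hv, add_zero]
      · intro r u _ hu; rw [map_smul, map_smul, hu, smul_zero]

theorem two (h2 : finrank k V = 2) (hne : ∃ v, T.σ v ≠ v) :
    (∀ a b, T.mul a b = T.mul b a) ∧ (∀ v, T.σ (T.σ v) = v) ∧
      ∃ (p : V) (c : k), LinearIndependent k ![T.x, p] ∧ T.σ p + p = c • T.x ∧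
        ∀ a, T.mul a (p - T.σ p) = 0 → a = 0 := by
  have : Nontrivial V := Module.nontrivial_of_finrank_eq_succ h2
  have hx := T.x_ne
  obtain ⟨p, η, d, hp, hσ, hη0, hnorm, hone⟩ := T.exists_normal (by omega)
  have hind := T.indep_x hp hx
  have htop : ∀ v, v ∈ Submodule.span k {T.x, p} := fun v => by
    rw [← Matrix.range_cons_cons_empty, hind.span_eq_top_of_card_eq_finrank (by simp [h2])]
    trivial
  obtain ⟨α, β, hsq⟩ := Submodule.mem_span_pair.1 (htop (T.mul p p))
  have hcomm := T.comm_of_span (p := p) fun v => Submodule.span_mono (by intro u hu; rcases hu with rfl | rfl <;> simp) (htop v)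
  have hne1 : ¬ (η = 1 ∧ d = 0) := fun ⟨h1, hd⟩ => by
    obtain ⟨v, hv⟩ := hne
    obtain ⟨a, b, rfl⟩ := Submodule.mem_span_pair.1 (htop v)
    exact hv (by rw [map_add, map_smul, map_smul, T.σ_x, hσ, h1, hd, zero_smul, add_zero, one_smul])
  have hσσ : T.σ (T.σ p) = p → ∀ v, T.σ (T.σ v) = v := fun h v => by
    obtain ⟨a, b, rfl⟩ := Submodule.mem_span_pair.1 (htop v)
    rw [map_add, map_smul, map_smul, T.σ_x, map_add, map_smul, map_smul, T.σ_x, h]
  rcases T.quadratic_cases hx hp hσ hnorm hsq.symm with ⟨rfl, hd | ⟨h20, -⟩⟩ | ⟨hη, rfl, hα⟩ | h0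
  · exact absurd ⟨rfl, hd⟩ hne1
  · have hd : d ≠ 0 := fun h => hne1 ⟨rfl, h⟩
    refine ⟨hcomm, hσσ ?_, p, d, hind, ?_, fun a ha => ?_⟩
    · rw [hσ, map_add, map_smul, T.σ_smul_x, hσ]
      match_scalars
      · ring
      · linear_combination d * h20
    · rw [hσ]
      match_scalars
      · linear_combination h20
      · ring
    · rw [hσ, one_smul, sub_add_cancel_left, map_neg, map_smul, T.mul_one', neg_eq_zero,
        smul_eq_zero] at ha
      exact ha.resolve_left hd
  · have hd := hnorm hη
    subst hd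
    rw [zero_smul, add_zero] at hσ
    rw [zero_smul, add_zero] at hsq
    have hlp : T.lam p = 0 := by
      have h := T.lam_σ p
      rw [hσ, map_smul, smul_eq_mul] at h
      have : (η - 1) * T.lam p = 0 := by linear_combination h
      exact (mul_eq_zero.1 this).resolve_left (sub_ne_zero.2 hη)
    have hα0 : α ≠ 0 := fun h0 => by
      obtain ⟨b, hb⟩ := T.lam_mul_ne (a := p) (fun h => hp (h ▸ Submodule.zero_mem _))
      obtain ⟨a, c, rfl⟩ := Submodule.mem_span_pair.1 (htop b)
      exact hb (by simp [map_add, map_smul, T.mul_one', ← hsq, h0, hlp])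
    have hη1 : η = -1 := (mul_self_eq_one_iff.1 (hα.resolve_left hα0)).resolve_left hη
    have h2ne : (2 : k) ≠ 0 := fun h => hη (by rw [hη1]; linear_combination -h)
    refine ⟨hcomm, hσσ ?_, p, 0, hind, ?_, fun a ha => ?_⟩
    · rw [hσ, map_smul, hσ, smul_smul, hη1, neg_mul_neg, one_mul, one_smul]
    · rw [hσ, hη1, zero_smul, neg_smul, one_smul, neg_add_cancel]
    · rw [hσ, hη1, neg_smul, one_smul, sub_neg_eq_add, map_add, ← two_smul k, smul_eq_zero] at ha
      have h := congrArg (fun u => T.mul u p) (ha.resolve_left h2ne)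
      simp only [T.mul_assoc', ← hsq, map_smul, T.mul_one', map_zero, LinearMap.zero_apply] at h
      exact (smul_eq_zero.1 h).resolve_left hα0
  · exact absurd h0 hη0

end Twist

end CfsgLib.LocalSym5
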