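import Cfsg.Agent.Lib.LocalSym5.Gen
import Cfsg.Agent.Lib.LocalSym5.Twist

/-!
# The visible layers as vector spaces, with their multiplication
-/

set_option autoImplicit false
set_option linter.unusedSectionVars false

namespace CfsgLib.LocalSym5

open Module

variable {k A : Type*} [Field k] [Ring A] [Algebra k A] [FiniteDimensional k A] (L : Lay k A)

namespace Lay

/-- The `n`-th visible layer. -/
abbrev Q (n : ℕ) : Type _ := L.P n ⧸ LinearMap.ker (L.pair n (L.N - n))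

theorem finrank_Q (n : ℕ) : finrank k (L.Q n) = L.d n :=
  (L.pair n (L.N - n)).quotKerEquivRange.finrank_eq

theorem exists_pr (n : ℕ) : ∃ g : A →ₗ[k] L.Q n,
    g.comp (L.P n).subtype = (LinearMap.ker (L.pair n (L.N - n))).mkQ :=
  LinearMap.exists_extend _

/-- A map to a layer which is the quotient map on that power. -/
noncomputable def pr (n : ℕ) : A →ₗ[k] L.Q n := (L.exists_pr n).choose

theorem pr_eq_mk {n : ℕ} (w : L.P n) :
    L.pr n w = Submodule.Quotient.mk w :=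
  LinearMap.congr_fun (L.exists_pr n).choose_spec w

theorem pr_eq_zero {n : ℕ} {w : A} (hw : w ∈ L.P n) : L.pr n w = 0 ↔ w ∈ L.Ann n := by
  rw [L.pr_eq_mk ⟨w, hw⟩, Submodule.Quotient.mk_eq_zero, LinearMap.mem_ker, L.mem_Ann]
  exact ⟨fun h => ⟨hw, fun z hz => LinearMap.congr_fun h ⟨z, hz⟩⟩,
    fun h => LinearMap.ext fun z => h.2 z z.2⟩

theorem pr_Ann {n : ℕ} {w : A} (hw : w ∈ L.Ann n) : L.pr n w = 0 :=
  (L.pr_eq_zero (L.Ann_le hw)).2 hw

theorem pr_eq_iff {n : ℕ} {w w' : A} (hw : w ∈ L.P n) (hw' : w' ∈ L.P n) :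
    L.pr n w = L.pr n w' ↔ w - w' ∈ L.Ann n := by
  rw [← sub_eq_zero, ← map_sub, L.pr_eq_zero ((L.P n).sub_mem hw hw')]

theorem exists_section (n : ℕ) : ∃ g : L.Q n →ₗ[k] L.P n,
    (LinearMap.ker (L.pair n (L.N - n))).mkQ.comp g = LinearMap.id :=
  LinearMap.exists_rightInverse_of_surjective _ (Submodule.range_mkQ _)

/-- A section of the projection to a layer. -/
noncomputable def s (n : ℕ) : L.Q n →ₗ[k] A := (L.P n).subtype.comp (L.exists_section n).choose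

theorem s_mem {n : ℕ} (q : L.Q n) : L.s n q ∈ L.P n := ((L.exists_section n).choose q).2

theorem pr_s {n : ℕ} (q : L.Q n) : L.pr n (L.s n q) = q := by
  rw [s, LinearMap.comp_apply, Submodule.subtype_apply, L.pr_eq_mk]
  exact LinearMap.congr_fun (L.exists_section n).choose_spec q

theorem sub_s_mem {n : ℕ} {w : A} (hw : w ∈ L.P n) : w - L.s n (L.pr n w) ∈ L.Ann n :=
  (L.pr_eq_iff hw (L.s_mem _)).1 (L.pr_s _).symm

theorem mem_span_range_pr {n : ℕ} (q : L.Q n) : ∃ w ∈ L.P n, L.pr n w = q :=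
  ⟨_, L.s_mem q, L.pr_s q⟩

/-- The product of two layers. -/
noncomputable def mulQ (i j l : ℕ) : L.Q i →ₗ[k] L.Q j →ₗ[k] L.Q l :=
  ((LinearMap.mul k A).compl₁₂ (L.s i) (L.s j)).compr₂ (L.pr l)

theorem mulQ_pr {i j l : ℕ} (h : i + j = l) (hl : l ≤ L.N) {a b : A} (ha : a ∈ L.P i)
    (hb : b ∈ L.P j) : L.mulQ i j l (L.pr i a) (L.pr j b) = L.pr l (a * b) := by
  subst h
  refine ((L.pr_eq_iff (L.mul_mem_P ha hb) (L.mul_mem_P (L.s_mem _) (L.s_mem _))).2 ?_).symm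
  have e : a * b - L.s i (L.pr i a) * L.s j (L.pr j b)
      = (a - L.s i (L.pr i a)) * b + L.s i (L.pr i a) * (b - L.s j (L.pr j b)) := by
    rw [sub_mul, mul_sub]; abel
  rw [e]
  exact (L.Ann (i + j)).add_mem (L.mul_Ann_right hl (L.sub_s_mem ha) hb)
    (L.mul_Ann_left hl (L.s_mem _) (L.sub_s_mem hb))

attribute [local irreducible] pr s mulQ

theorem one_le_d_one : 1 ≤ L.d 1 := by
  have h4 := L.four
  by_contra h
  have hd : L.d 1 = 0 := by omega
  have hA : L.P 1 ≤ L.Ann 1 := fun w hw => by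
    refine (L.pr_eq_zero hw).1 ?_
    have h0 := L.finrank_Q 1
    rw [hd] at h0
    have := Module.finrank_zero_iff.1 h0
    exact Subsingleton.elim _ _
  refine L.ne ((Submodule.eq_bot_iff _).2 fun w hw => L.eq_zero_top L.top hw ?_)
  rw [Data.P, show L.N = 1 + (L.N - 1) by omega, pow_add] at hw
  refine Submodule.mul_induction_on hw (fun a ha b hb => ?_) fun u v hu hv => by
    rw [map_add, hu, hv, add_zero]
  exact (L.τ_mul_Ann (by omega) (hA ha) hb).1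

theorem eq_zero_of_mul {v : L.Q 1} (h : ∀ u, L.mulQ 1 1 2 u v = 0) : v = 0 := by
  have h4 := L.four
  obtain ⟨w, hw, rfl⟩ := L.mem_span_range_pr v
  refine (L.pr_eq_zero hw).2 (L.mem_Ann.2 ⟨hw, fun z hz => ?_⟩)
  rw [Data.P, show L.N - 1 = (L.N - 2) + 1 by omega, pow_add] at hz
  refine Submodule.mul_induction_on hz (fun a ha b hb => ?_) fun x y hx hy => by
    rw [mul_add, map_add, hx, hy, add_zero]
  have hb' : b ∈ L.P 1 := hb
  have h2 := h (L.pr 1 b)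
  rw [L.mulQ_pr rfl (by omega) hb' hw, L.pr_eq_zero (L.mul_mem_P (i := 1) (j := 1) hb' hw)] at h2
  rw [← mul_assoc, L.symm, ← mul_assoc]
  exact (L.τ_mul_Ann (by omega) h2 ha).1

theorem span_mulQ : Submodule.span k {q | ∃ u v, L.mulQ 1 1 2 u v = q} = ⊤ := by
  refine eq_top_iff.2 fun q _ => ?_
  obtain ⟨w, hw, rfl⟩ := L.mem_span_range_pr q
  rw [Data.P, pow_two] at hw
  refine Submodule.mul_induction_on hw (fun a ha b hb => ?_) fun x y hx hy => by
    rw [map_add]; exact Submodule.add_mem _ hx hy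
  have ha' : a ∈ L.P 1 := by rw [L.P_one]; exact ha
  have hb' : b ∈ L.P 1 := by rw [L.P_one]; exact hb
  exact Submodule.subset_span ⟨_, _, L.mulQ_pr rfl (by have := L.four; omega) ha' hb'⟩

/-- A surjective multiplication gives a generator. -/
theorem gen_of_surjective {x : L.Q 1} (hx : Function.Surjective (L.mulQ 1 1 2 x)) :
    L.Gen (L.s 1 x) := by
  refine ⟨L.s_mem x, fun w hw => ?_⟩
  obtain ⟨y, hy⟩ := hx (L.pr 2 w)
  rw [← L.pr_s x, ← L.pr_s y,
    L.mulQ_pr rfl (by have := L.four; omega) (L.s_mem x) (L.s_mem y)] at hy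
  have h := (L.pr_eq_iff hw (L.mul_mem_P (i := 1) (j := 1) (L.s_mem x) (L.s_mem y))).1 hy.symm
  exact Submodule.mem_sup.2 ⟨_, ⟨_, L.s_mem y, rfl⟩, _, h, by
    rw [LinearMap.mulLeft_apply, add_sub_cancel]⟩

variable {L} {x : A} (hx : L.Gen x)

theorem pow_mem (hx : L.Gen x) (n : ℕ) : x ^ n ∈ L.P n := by
  induction n with
  | zero => rw [pow_zero]; exact L.one_mem_P_zero
  | succ n ih => rw [pow_succ]; exact L.mul_mem_P ih hx.1

/-- Multiplication with a power of `x`. -/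
noncomputable def e (_hx : L.Gen x) (n : ℕ) : L.Q 1 →ₗ[k] L.Q n :=
  (L.pr n).comp ((LinearMap.mulLeft k (x ^ (n - 1))).comp (L.s 1))

theorem e_apply (n : ℕ) (q : L.Q 1) : e hx n q = L.pr n (x ^ (n - 1) * L.s 1 q) := rfl

theorem e_pr {n : ℕ} (h1 : 1 ≤ n) (hn : n ≤ L.N) {w : A} (hw : w ∈ L.P 1) :
    e hx n (L.pr 1 w) = L.pr n (x ^ (n - 1) * w) := by
  refine ((L.pr_eq_iff ?_ ?_).2 ?_).symm
  · have := L.mul_mem_P (pow_mem hx (n - 1)) hw; rwa [Nat.sub_add_cancel h1] at this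
  · have := L.mul_mem_P (pow_mem hx (n - 1)) (L.s_mem (L.pr 1 w))
    rw [Nat.sub_add_cancel h1] at this; exact this
  · show x ^ (n - 1) * w - x ^ (n - 1) * L.s 1 (L.pr 1 w) ∈ L.Ann n
    rw [← mul_sub]
    have := L.mul_Ann_left (m := n - 1) (by omega) (pow_mem hx (n - 1)) (L.sub_s_mem hw)
    rwa [Nat.sub_add_cancel h1] at this

theorem e_injective {n : ℕ} (h1 : 1 ≤ n) (hn : n + 1 ≤ L.N) :
    Function.Injective (e hx n) := by
  refine (injective_iff_map_eq_zero _).2 fun q hq => ?_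
  obtain ⟨w, hw, rfl⟩ := L.mem_span_range_pr q
  rw [e_pr hx h1 (by omega) hw] at hq
  refine (L.pr_eq_zero hw).2 ?_
  induction n, h1 using Nat.le_induction with
  | base => simpa using (L.pr_eq_zero (by simpa using hw)).1 hq
  | succ n h1 ih =>
    have hmem := L.mul_mem_P (pow_mem hx (n - 1)) hw
    rw [Nat.sub_add_cancel h1] at hmem
    refine ih (by omega) ((L.pr_eq_zero hmem).2 (hx.inj h1 (by omega) hmem ?_))
    have hmem' := L.mul_mem_P (pow_mem hx n) hw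
    rw [Nat.add_sub_cancel] at hq
    rw [← mul_assoc, ← pow_succ', Nat.sub_add_cancel h1]
    exact (L.pr_eq_zero hmem').1 hq

theorem e_surjective {n : ℕ} (h1 : 1 ≤ n) (hn : n + 1 ≤ L.N) :
    Function.Surjective (e hx n) :=
  (LinearMap.injective_iff_surjective_of_finrank_eq_finrank
    (by rw [L.finrank_Q, L.finrank_Q, hx.d_eq h1 hn])).1 (e_injective hx h1 hn)

/-- The coordinates of a layer with respect to a generator. -/
noncomputable def θ (hx : L.Gen x) (n : ℕ) : A →ₗ[k] L.Q 1 := (e hx n).leftInverse.comp (L.pr n)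

theorem θ_e {n : ℕ} (h1 : 1 ≤ n) (hn : n + 1 ≤ L.N) {w : A} {u : L.Q 1}
    (h : L.pr n w = e hx n u) : θ hx n w = u := by
  rw [θ, LinearMap.comp_apply, h,
    LinearMap.leftInverse_apply_of_inj (LinearMap.ker_eq_bot.2 (e_injective hx h1 hn))]

theorem pr_θ {n : ℕ} (h1 : 1 ≤ n) (hn : n + 1 ≤ L.N) (w : A) :
    L.pr n w = e hx n (θ hx n w) := by
  obtain ⟨u, hu⟩ := e_surjective hx h1 hn (L.pr n w)
  rw [θ_e hx h1 hn hu.symm, hu]

theorem θ_Ann {n : ℕ} {w : A} (hw : w ∈ L.Ann n) : θ hx n w = 0 := by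
  rw [θ, LinearMap.comp_apply, L.pr_Ann hw, map_zero]

theorem θ_pow {n : ℕ} (h1 : 1 ≤ n) (hn : n + 1 ≤ L.N) {w : A} (hw : w ∈ L.P 1) :
    θ hx n (x ^ (n - 1) * w) = L.pr 1 w := θ_e hx h1 hn (e_pr hx h1 (by omega) hw).symm

theorem θ_one {w : A} (hw : w ∈ L.P 1) : θ hx 1 w = L.pr 1 w := by
  have := θ_pow hx (n := 1) le_rfl (by have := L.four; omega) hw
  simpa using this

/-- The twisted multiplication of the first layer. -/
noncomputable def tμ (hx : L.Gen x) : L.Q 1 →ₗ[k] L.Q 1 →ₗ[k] L.Q 1 :=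
  (L.mulQ 1 1 2).compr₂ (e hx 2).leftInverse

theorem tμ_pr {a b : A} (ha : a ∈ L.P 1) (hb : b ∈ L.P 1) :
    tμ hx (L.pr 1 a) (L.pr 1 b) = θ hx 2 (a * b) := by
  rw [tμ, LinearMap.compr₂_apply, L.mulQ_pr rfl (by have := L.four; omega) ha hb]; rfl

/-- The twist. -/
noncomputable def tσ (hx : L.Gen x) : L.Q 1 →ₗ[k] L.Q 1 := (tμ hx).flip (L.pr 1 x)

theorem tσ_apply (u : L.Q 1) : tσ hx u = tμ hx u (L.pr 1 x) := by
  rw [tσ, LinearMap.flip_apply]

theorem tσ_pr {a : A} (ha : a ∈ L.P 1) : tσ hx (L.pr 1 a) = θ hx 2 (a * x) := by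
  rw [tσ_apply]; exact tμ_pr hx ha hx.1

attribute [local irreducible] tμ tσ e

/-- Products in `P (n+1)` are determined modulo `Ann` by their coordinates. -/
theorem mul_eq_pow {a b : A} (ha : a ∈ L.P 1) (hb : b ∈ L.P 1) :
    a * b - x * L.s 1 (tμ hx (L.pr 1 a) (L.pr 1 b)) ∈ L.Ann 2 := by
  have h4 := L.four
  set q := tμ hx (L.pr 1 a) (L.pr 1 b) with hq
  have h1 : L.pr 2 (a * b) = e hx 2 q := by
    rw [hq, tμ_pr hx ha hb]
    exact pr_θ hx (by omega) (by omega) _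
  have h2 : e hx 2 q = L.pr 2 (x * L.s 1 q) := by
    have h := e_pr hx (n := 2) (by omega) (by omega) (L.s_mem q)
    rw [L.pr_s, show (2 : ℕ) - 1 = 1 from rfl, pow_one] at h
    exact h
  exact (L.pr_eq_iff (L.mul_mem_P (i := 1) (j := 1) ha hb)
    (L.mul_mem_P (i := 1) (j := 1) hx.1 (L.s_mem _))).1 (h1.trans h2)

theorem mul_pow_sub : ∀ (j : ℕ), j + 1 ≤ L.N → ∀ {a : A}, a ∈ L.P 1 →
    a * x ^ j - x ^ j * L.s 1 ((tσ hx ^ j) (L.pr 1 a)) ∈ L.Ann (j + 1) := by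
  intro j
  induction j with
  | zero =>
    intro _ a ha
    simpa using L.sub_s_mem ha
  | succ j ih =>
    intro hj a ha
    set a' := L.s 1 (tσ hx (L.pr 1 a))
    have ha' : a' ∈ L.P 1 := L.s_mem _
    have h1 : a * x - x * a' ∈ L.Ann 2 := by
      have := mul_eq_pow hx ha hx.1
      rwa [← tσ_apply] at this
    have h2 := L.mul_Ann_right (n := 2) (m := j) (by omega) h1 (pow_mem hx j)
    have h3 := ih (by omega) ha'
    rw [L.pr_s] at h3
    have h4 := L.mul_Ann_left (m := 1) (n := j + 1) (by omega) hx.1 h3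
    rw [show 1 + (j + 1) = j + 1 + 1 by omega] at h4
    rw [show 2 + j = j + 1 + 1 by omega] at h2
    have h := (L.Ann _).add_mem h2 h4
    rw [pow_succ (tσ hx), Module.End.mul_apply]
    convert h using 1
    simp only [sub_mul, mul_sub, pow_succ', mul_assoc]
    abel

/-- The top functional on the first layer. -/
noncomputable def tlam (_hx : L.Gen x) : Dual k (L.Q 1) :=
  L.τ.comp ((LinearMap.mulLeft k (x ^ (L.N - 1))).comp (L.s 1))

theorem tlam_apply (v : L.Q 1) : tlam hx v = L.τ (x ^ (L.N - 1) * L.s 1 v) := rfl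

attribute [local irreducible] tlam θ

theorem tμ_assoc (u v w : L.Q 1) :
    tμ hx (tμ hx u v) w = tμ hx (tσ hx u) (tμ hx v w) := by
  have h4 := L.four
  obtain ⟨a, ha, rfl⟩ := L.mem_span_range_pr u
  obtain ⟨b, hb, rfl⟩ := L.mem_span_range_pr v
  obtain ⟨c, hc, rfl⟩ := L.mem_span_range_pr w
  apply e_injective hx (n := 3) (by omega) (by omega)
  set m := L.s 1 (tμ hx (L.pr 1 a) (L.pr 1 b)) with hm
  set m' := L.s 1 (tμ hx (L.pr 1 b) (L.pr 1 c)) with hm'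
  set a' := L.s 1 (tσ hx (L.pr 1 a)) with ha'
  have r1 : tμ hx (L.pr 1 a) (L.pr 1 b) = L.pr 1 m := (L.pr_s _).symm
  have r2 : tμ hx (L.pr 1 b) (L.pr 1 c) = L.pr 1 m' := (L.pr_s _).symm
  have r3 : tσ hx (L.pr 1 a) = L.pr 1 a' := (L.pr_s _).symm
  have mm : m ∈ L.P 1 := L.s_mem _
  have mm' : m' ∈ L.P 1 := L.s_mem _
  have ma' : a' ∈ L.P 1 := L.s_mem _
  rw [r1, r2, r3]
  have g1 := mul_eq_pow hx mm hc
  have g2 := mul_eq_pow hx ma' mm'
  generalize tμ hx (L.pr 1 m) (L.pr 1 c) = q₁ at g1 ⊢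
  generalize tμ hx (L.pr 1 a') (L.pr 1 m') = q₂ at g2 ⊢
  rw [e_apply hx, e_apply hx, show (3 : ℕ) - 1 = 2 from rfl]
  have p1 : a * b - x * m ∈ L.Ann 2 := mul_eq_pow hx ha hb
  have p2 : b * c - x * m' ∈ L.Ann 2 := mul_eq_pow hx hb hc
  have p3 : a * x - x * a' ∈ L.Ann 2 := by
    rw [ha', tσ_apply hx]; exact mul_eq_pow hx ha hx.1
  have hq : ∀ q, x ^ 2 * L.s 1 q ∈ L.P 3 := fun q =>
    L.mul_mem_P (pow_mem hx 2) (L.s_mem q)
  refine (L.pr_eq_iff (n := 3) (hq q₁) (hq q₂)).2 ?_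
  have e1 := L.mul_Ann_right (n := 2) (m := 1) (by omega) p1 hc
  have e2 := L.mul_Ann_left (n := 2) (m := 1) (by omega) ha p2
  have e3 := L.mul_Ann_right (n := 2) (m := 1) (by omega) p3 mm'
  have e4 := L.mul_Ann_left (n := 2) (m := 1) (by omega) hx.1 g1
  have e5 := L.mul_Ann_left (n := 2) (m := 1) (by omega) hx.1 g2
  have h := (L.Ann 3).add_mem ((L.Ann 3).sub_mem ((L.Ann 3).sub_mem
    ((L.Ann 3).add_mem e2 e3) e1) e4) e5
  convert h using 1
  simp only [pow_two, mul_sub, sub_mul, mul_assoc]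
  abel

theorem tlam_cyc (u v : L.Q 1) :
    tlam hx (tμ hx u v) = tlam hx (tμ hx (((tσ hx) ^ (L.N - 2)) v) u) := by
  have h4 := L.four
  obtain ⟨a, ha, rfl⟩ := L.mem_span_range_pr u
  obtain ⟨b, hb, rfl⟩ := L.mem_span_range_pr v
  set b' := L.s 1 ((tσ hx ^ (L.N - 2)) (L.pr 1 b))
  have r : (tσ hx ^ (L.N - 2)) (L.pr 1 b) = L.pr 1 b' := (L.pr_s _).symm
  have mb' : b' ∈ L.P 1 := L.s_mem _
  rw [r]
  rw [tlam_apply, tlam_apply]
  have key : ∀ p q : A, p ∈ L.P 1 → q ∈ L.P 1 →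
      L.τ (x ^ (L.N - 1) * L.s 1 (tμ hx (L.pr 1 p) (L.pr 1 q)))
        = L.τ (x ^ (L.N - 2) * p * q) := by
    intro p q hp hq
    rw [show x ^ (L.N - 1) = x ^ (L.N - 2) * x by rw [← pow_succ]; congr 1; omega, mul_assoc, mul_assoc, ← sub_eq_zero,
      ← map_sub, ← mul_sub]
    have := (L.Ann 2).neg_mem (mul_eq_pow hx hp hq)
    rw [neg_sub] at this
    exact (L.τ_mul_Ann (by omega) this (pow_mem hx (L.N - 2))).2
  rw [key a b ha hb, key b' a mb' ha, L.symm _ b, ← mul_assoc, ← sub_eq_zero, ← map_sub,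
    ← sub_mul]
  have := mul_pow_sub hx (L.N - 2) (by omega) hb
  rw [show L.N - 2 + 1 = L.N - 1 by omega] at this
  exact (L.τ_mul_Ann (by omega) this ha).1

theorem tlam_nondeg (u : L.Q 1) (h : ∀ v, tlam hx (tμ hx u v) = 0) : u = 0 := by
  have h4 := L.four
  obtain ⟨a, ha, rfl⟩ := L.mem_span_range_pr u
  apply e_injective hx (n := L.N - 1) (by omega) (by omega)
  rw [map_zero, e_pr hx (by omega) (by omega) ha]
  have hmem : x ^ (L.N - 1 - 1) * a ∈ L.P (L.N - 1) := by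
    have := L.mul_mem_P (pow_mem hx (L.N - 1 - 1)) ha
    rwa [show L.N - 1 - 1 + 1 = L.N - 1 by omega] at this
  refine (L.pr_eq_zero hmem).2 (L.mem_Ann.2 ⟨hmem, fun z hz => ?_⟩)
  rw [show L.N - (L.N - 1) = 1 by omega] at hz
  have hh := h (L.pr 1 z)
  rw [tlam_apply] at hh
  rw [show x ^ (L.N - 1) = x ^ (L.N - 2) * x by rw [← pow_succ]; congr 1; omega, mul_assoc] at hh
  have := (L.τ_mul_Ann (by omega) (mul_eq_pow hx ha hz) (pow_mem hx (L.N - 2))).2
  rw [mul_sub, map_sub, hh, sub_zero, ← mul_assoc] at this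
  rwa [show x ^ (L.N - 1 - 1) = x ^ (L.N - 2) by congr 1]

/-- The algebra of a generated layer. -/
noncomputable def twist (hx : L.Gen x) : Twist k (L.Q 1) where
  μ := tμ hx
  x := L.pr 1 x
  σ := tσ hx
  lam := tlam hx
  n := L.N - 2
  x_mul v := by
    obtain ⟨w, hw, rfl⟩ := L.mem_span_range_pr v
    rw [tμ_pr hx hx.1 hw]
    have := θ_pow hx (n := 2) (by omega) (by have := L.four; omega) hw
    simpa using this
  mul_x v := (tσ_apply hx v).symm
  assoc := tμ_assoc hx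
  cyc := tlam_cyc hx
  nondeg := tlam_nondeg hx

theorem twist_x : (twist hx).x = L.pr 1 x := rfl

theorem twist_σ_eq : (twist hx).σ = tσ hx := rfl

/-- Coordinates of products. -/
theorem θ_mul {i j : ℕ} (hi : 1 ≤ i) (hj : 1 ≤ j) (hij : i + j + 1 ≤ L.N) {a b : A}
    (ha : a ∈ L.P i) (hb : b ∈ L.P j) :
    θ hx (i + j) (a * b) = (twist hx).mul (((tσ hx) ^ j) (θ hx i a)) (θ hx j b) := by
  set u := θ hx i a
  set v := θ hx j b
  have hu : ∀ (n : ℕ) (q : L.Q 1), 1 ≤ n → x ^ (n - 1) * L.s 1 q ∈ L.P n := fun n q hn => by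
    have := L.mul_mem_P (pow_mem hx (n - 1)) (L.s_mem q)
    rwa [Nat.sub_add_cancel hn] at this
  have h1 : L.pr (i + j) (a * b)
      = L.pr (i + j) ((x ^ (i - 1) * L.s 1 u) * (x ^ (j - 1) * L.s 1 v)) := by
    rw [← L.mulQ_pr rfl (by omega) ha hb, ← L.mulQ_pr rfl (by omega) (hu i u hi) (hu j v hj),
      pr_θ hx hi (by omega) a, pr_θ hx hj (by omega) b, e_apply hx, e_apply hx]
  set u' := L.s 1 (((tσ hx) ^ (j - 1)) u)
  have mu' : u' ∈ L.P 1 := L.s_mem _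
  set q := tμ hx (L.pr 1 u') (L.pr 1 (L.s 1 v))
  have g : L.s 1 u * x ^ (j - 1) - x ^ (j - 1) * u' ∈ L.Ann j := by
    have := mul_pow_sub hx (j - 1) (by omega) (L.s_mem u)
    rwa [L.pr_s, Nat.sub_add_cancel hj] at this
  have g2 := mul_eq_pow hx mu' (L.s_mem v)
  have d1 := L.mul_Ann_left (n := j + 1) (m := i - 1) (by omega) (pow_mem hx (i - 1))
    (L.mul_Ann_right (m := 1) (by omega) g (L.s_mem v))
  have d2 := L.mul_Ann_left (n := 2) (m := i - 1 + (j - 1)) (by omega)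
    (pow_mem hx (i - 1 + (j - 1))) g2
  rw [show i - 1 + (j + 1) = i + j by omega] at d1
  rw [show i - 1 + (j - 1) + 2 = i + j by omega] at d2
  have h2 : L.pr (i + j) (a * b) = e hx (i + j) q := by
    rw [h1, e_apply hx]
    refine (L.pr_eq_iff (L.mul_mem_P (hu i u hi) (hu j v hj)) (hu _ q (by omega))).2 ?_
    have h := (L.Ann _).add_mem d1 d2
    convert h using 1
    rw [show i + j - 1 = i - 1 + (j - 1) + 1 by omega, pow_succ, pow_add]
    simp only [mul_sub, sub_mul, mul_assoc]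
    abel
  rw [θ_e hx (by omega) (by omega) h2]
  show tμ hx (L.pr 1 u') (L.pr 1 (L.s 1 v)) = _
  rw [L.pr_s, L.pr_s]
  have hj' : (tσ hx ^ j) u = tσ hx ((tσ hx ^ (j - 1)) u) := by
    rw [← Module.End.mul_apply, ← pow_succ', Nat.sub_add_cancel hj]
  rw [hj']
  exact (twist hx).μ_eq _ _

/-- Coordinates of a commutator. -/
theorem θ_comm {i : ℕ} (hi : 1 ≤ i) (hiN : i + 2 ≤ L.N) {a z : A} (ha : a ∈ L.P i)
    (hz : z ∈ L.P 1) :
    θ hx (i + 1) (a * z - z * a) = (twist hx).mul (tσ hx (θ hx i a)) (L.pr 1 z)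
      - (twist hx).mul (((tσ hx) ^ i) (L.pr 1 z)) (θ hx i a) := by
  rw [map_sub, θ_mul hx hi le_rfl (by omega) ha hz, θ_one hx hz, pow_one]
  have := θ_mul hx le_rfl hi (by omega) hz ha
  rw [show 1 + i = i + 1 by omega, θ_one hx hz] at this
  rw [this]

end Lay

end CfsgLib.LocalSym5
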