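import Mathlib

/-!
# Symmetric local algebras: powers of the radical, socle, and annihilators of layers
-/

set_option autoImplicit false
set_option linter.unusedSectionVars false

namespace CfsgLib.LocalSym5

open Module

/-- A symmetric local algebra: an augmentation with nil kernel and a symmetric nondegenerate
form. -/
structure Data (k A : Type*) [Field k] [Ring A] [Algebra k A] where
  φ : A →ₐ[k] k
  nil : ∀ a, φ a = 0 → IsNilpotent a
  τ : A →ₗ[k] k
  symm : ∀ x y, τ (x * y) = τ (y * x)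
  nondeg : ∀ x, (∀ y, τ (x * y) = 0) → x = 0

variable {k A : Type*} [Field k] [Ring A] [Algebra k A] (S : Data k A)

namespace Data

/-- The radical. -/
def J : Submodule k A := LinearMap.ker S.φ.toLinearMap

/-- The powers of the radical. -/
def P (n : ℕ) : Submodule k A := S.J ^ n

/-- The span of the commutators. -/
def K (_S : Data k A) : Submodule k A := Submodule.span k {x | ∃ a b : A, a * b - b * a = x}

theorem mem_J {a : A} : a ∈ S.J ↔ S.φ a = 0 := Iff.rfl

theorem sub_mem_J (a : A) : a - algebraMap k A (S.φ a) ∈ S.J := by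
  rw [mem_J, map_sub, AlgHom.commutes, Algebra.algebraMap_self, RingHom.id_apply, sub_self]

theorem P_one : S.P 1 = S.J := pow_one _

theorem P_zero : S.P 0 = 1 := pow_zero _

theorem one_mem_P_zero : (1 : A) ∈ S.P 0 := by
  rw [P_zero]; exact Submodule.one_le.1 le_rfl

theorem mul_mem_P {i j : ℕ} {a b : A} (ha : a ∈ S.P i) (hb : b ∈ S.P j) :
    a * b ∈ S.P (i + j) := by
  rw [P, pow_add]; exact Submodule.mul_mem_mul ha hb

theorem mul_mem_J_left (a : A) {b : A} (hb : b ∈ S.J) : a * b ∈ S.J := by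
  rw [mem_J] at hb ⊢; rw [map_mul, hb, mul_zero]

theorem P_succ_le {n : ℕ} (hn : 1 ≤ n) : S.P (n + 1) ≤ S.P n := by
  induction n, hn using Nat.le_induction with
  | base =>
    rw [P, pow_succ, pow_one, P_one]
    exact Submodule.mul_le.2 fun a _ b hb => S.mul_mem_J_left a hb
  | succ n _ ih =>
    rw [P, pow_succ, P, pow_succ S.J n]
    exact Submodule.mul_le.2 fun a ha b hb => Submodule.mul_mem_mul (ih ha) hb

theorem P_anti {m n : ℕ} (hm : 1 ≤ m) (h : m ≤ n) : S.P n ≤ S.P m := by
  induction n, h using Nat.le_induction with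
  | base => exact le_rfl
  | succ n hn ih => exact (S.P_succ_le (hm.trans hn)).trans ih

theorem P_le_J {n : ℕ} (hn : 1 ≤ n) : S.P n ≤ S.J := S.P_one ▸ S.P_anti le_rfl hn

theorem mul_mem_P_left {n : ℕ} (hn : 1 ≤ n) (a : A) {b : A} (hb : b ∈ S.P n) :
    a * b ∈ S.P n := by
  rw [← sub_add_cancel a (algebraMap k A (S.φ a)), add_mul, ← Algebra.smul_def]
  refine (S.P n).add_mem ?_ ((S.P n).smul_mem _ hb)
  have h := S.mul_mem_P (i := 1) (by rw [P_one]; exact S.sub_mem_J a) hb
  exact S.P_succ_le hn (by rwa [add_comm] at h)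

theorem τ_comm (a b : A) : S.τ (a * b - b * a) = 0 := by rw [map_sub, S.symm, sub_self]

theorem τ_K {x : A} (hx : x ∈ S.K) : S.τ x = 0 := by
  refine Submodule.span_induction (p := fun x _ => S.τ x = 0) ?_ ?_ ?_ ?_ hx
  · rintro x ⟨a, b, rfl⟩; exact S.τ_comm a b
  · exact map_zero _
  · intro x y _ _ h1 h2; rw [map_add, h1, h2, add_zero]
  · intro r x _ h; rw [map_smul, h, smul_zero]

theorem comm_sub (a b : A) :
    a * b - b * a = (a - algebraMap k A (S.φ a)) * (b - algebraMap k A (S.φ b))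
      - (b - algebraMap k A (S.φ b)) * (a - algebraMap k A (S.φ a)) := by
  rw [sub_mul, sub_mul, mul_sub, mul_sub, mul_sub, mul_sub, Algebra.commutes (S.φ a) b,
    Algebra.commutes (S.φ b) a, Algebra.commutes (S.φ a) (algebraMap k A (S.φ b))]
  abel

theorem K_le : S.K ≤ S.P 2 := by
  refine Submodule.span_le.2 ?_
  rintro x ⟨a, b, rfl⟩
  rw [S.comm_sub a b]
  have h := fun a => S.P_one.symm ▸ S.sub_mem_J a
  exact (S.P 2).sub_mem (S.mul_mem_P (h a) (h b)) (S.mul_mem_P (h b) (h a))

theorem comm_mem_K (a b : A) : a * b - b * a ∈ S.K := Submodule.subset_span ⟨a, b, rfl⟩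

section Finite

variable [FiniteDimensional k A]

theorem eq_bot_of_le_mul {X : Submodule k A} (hst : ∀ a ∈ S.J, ∀ x ∈ X, a * x ∈ X)
    (h : X ≤ S.J * X) : X = ⊥ := by
  classical
  by_contra hX
  let Stable : Submodule k A → Prop := fun T => T ≤ X ∧ T ≠ X ∧ ∀ a ∈ S.J, ∀ t ∈ T, a * t ∈ T
  have hex : ∃ n T, Stable T ∧ finrank k X - finrank k T = n :=
    ⟨_, ⊥, ⟨bot_le, fun h => hX h.symm, fun a _ t ht => by
      rw [(Submodule.mem_bot k).1 ht, mul_zero]; exact Submodule.zero_mem _⟩, rfl⟩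
  obtain ⟨T, ⟨hTX, hTne, hTst⟩, hTn⟩ := Nat.find_spec hex
  have hmax : ∀ T', Stable T' → T ≤ T' → T = T' := fun T' hT' hle => by
    by_contra hne
    have h1 := Submodule.finrank_lt_finrank_of_lt (lt_of_le_of_ne hle hne)
    have h2 := Submodule.finrank_mono hT'.1
    exact Nat.find_min hex (m := finrank k X - finrank k T') (by rw [← hTn]; omega) ⟨T', hT', rfl⟩
  refine hTne (le_antisymm hTX (h.trans (Submodule.mul_le.2 fun a ha w hw => ?_)))
  by_cases hwT : w ∈ T
  · exact hTst a ha w hwT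
  let T' : Submodule k A := T ⊔ S.J.map (LinearMap.mulRight k w)
  have hT'X : T' ≤ X := sup_le hTX (by
    rintro _ ⟨a', ha', rfl⟩; exact hst a' ha' w hw)
  have hwne : w ∉ T' := by
    intro hmem
    obtain ⟨t, ht, _, ⟨a', ha', rfl⟩, hsum⟩ := Submodule.mem_sup.1 hmem
    apply hwT
    simp only [LinearMap.mulRight_apply] at hsum
    have h2 : w - a' * w ∈ T := by rwa [show w - a' * w = t by rw [sub_eq_iff_eq_add, hsum]]
    have hj : ∀ j : ℕ, w - a' ^ (j + 1) * w ∈ T := by
      intro j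
      induction j with
      | zero => rwa [zero_add, pow_one]
      | succ j ih =>
        have h3 := T.add_mem h2 (hTst a' ha' _ ih)
        rwa [mul_sub, ← mul_assoc, ← pow_succ' a', sub_add_sub_cancel] at h3
    obtain ⟨n, hn⟩ := S.nil a' ha'
    have h := hj n
    rwa [pow_succ, hn, zero_mul, zero_mul, sub_zero] at h
  have hst' : Stable T' := ⟨hT'X, fun h => hwne (h ▸ hw), fun a' ha' t ht => by
    obtain ⟨t₁, ht₁, _, ⟨a'', ha'', rfl⟩, rfl⟩ := Submodule.mem_sup.1 ht
    rw [mul_add]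
    refine Submodule.add_mem_sup (hTst a' ha' t₁ ht₁) ⟨a' * a'', S.mul_mem_J_left a' ha'', ?_⟩
    simp only [LinearMap.mulRight_apply, mul_assoc]⟩
  rw [hmax T' hst' le_sup_left]
  exact Submodule.mem_sup_right ⟨a, ha, rfl⟩

theorem P_eq_bot_of_le {n : ℕ} (hn : 1 ≤ n) (h : S.P n ≤ S.P (n + 1)) : S.P n = ⊥ := by
  refine S.eq_bot_of_le_mul (fun a _ x hx => S.mul_mem_P_left hn a hx) ?_
  rwa [P, P, pow_succ'] at h

theorem exists_length : ∃ N, S.P (N + 1) = ⊥ ∧ S.P N ≠ ⊥ := by
  classical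
  have hex : ∃ n, S.P n = ⊥ := by
    by_contra hcon
    push Not at hcon
    have h : ∀ n, finrank k (S.P (n + 1)) + n ≤ finrank k A := by
      intro n
      induction n with
      | zero => simpa using Submodule.finrank_le _
      | succ n ih =>
        have := Submodule.finrank_lt_finrank_of_lt (lt_of_le_of_ne (S.P_succ_le (n := n + 1) (by omega))
          fun he => hcon (n + 1) (S.P_eq_bot_of_le (by omega) he.ge))
        omega
    have := h (finrank k A + 1)
    omega
  have hne : Nontrivial A := ⟨⟨1, 0, fun h => one_ne_zero (α := k) (by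
    rw [← map_one S.φ, h, map_zero])⟩⟩
  have h0 : Nat.find hex ≠ 0 := fun h => by
    have h' := Nat.find_spec hex
    rw [h] at h'
    exact one_ne_zero ((Submodule.mem_bot k).1 (h' ▸ S.one_mem_P_zero))
  refine ⟨Nat.find hex - 1, ?_, Nat.find_min hex (by omega)⟩
  rw [Nat.sub_add_cancel (Nat.one_le_iff_ne_zero.2 h0)]
  exact Nat.find_spec hex

theorem eq_zero_of_socle {u : A} (hu : ∀ a ∈ S.J, u * a = 0) (hτ : S.τ u = 0) : u = 0 :=
  S.nondeg u fun y => by
    rw [← sub_add_cancel y (algebraMap k A (S.φ y)), mul_add, hu _ (S.sub_mem_J y), zero_add,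
      ← Algebra.commutes, ← Algebra.smul_def, map_smul, hτ, smul_zero]

variable {N : ℕ} (hN : S.P (N + 1) = ⊥)
include hN

theorem eq_zero_top {u : A} (hu : u ∈ S.P N) (hτ : S.τ u = 0) : u = 0 := by
  refine S.eq_zero_of_socle (fun a ha => ?_) hτ
  have h := S.mul_mem_P hu (j := 1) (by rwa [P_one])
  rwa [hN, Submodule.mem_bot] at h

theorem P_eq_bot {n : ℕ} (h : N + 1 ≤ n) : S.P n = ⊥ :=
  le_bot_iff.1 (hN ▸ S.P_anti (by omega) h)

theorem P_top_finrank : finrank k (S.P N) ≤ 1 := by
  rw [← finrank_self k]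
  refine LinearMap.finrank_le_finrank_of_injective (f := S.τ.domRestrict (S.P N)) ?_
  refine (injective_iff_map_eq_zero _).2 fun u hu => Subtype.ext ?_
  exact S.eq_zero_top hN u.2 hu

theorem P_top_disjoint : Disjoint (S.P N) S.K :=
  Submodule.disjoint_def.2 fun _ hu hK => S.eq_zero_top hN hu (S.τ_K hK)

theorem not_P_le_K {n : ℕ} (hn : 1 ≤ n) (hnN : n ≤ N) (hN0 : S.P N ≠ ⊥) : ¬ S.P n ≤ S.K :=
  fun h => hN0 ((S.P_top_disjoint hN).eq_bot_of_le ((S.P_anti hn hnN).trans h))

end Finite

theorem finrank_eq [FiniteDimensional k A] :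
    finrank k A = finrank k S.K + finrank k (Subalgebra.center k A) := by
  let Φ : A →ₗ[k] Dual k A := (LinearMap.mul k A).compr₂ S.τ
  have hinj : Function.Injective Φ := (injective_iff_map_eq_zero Φ).2 fun u hu =>
    S.nondeg u fun y => LinearMap.congr_fun hu y
  let e := LinearEquiv.ofBijective Φ ⟨hinj, (LinearMap.injective_iff_surjective_of_finrank_eq_finrank
    Subspace.dual_finrank_eq.symm).1 hinj⟩
  have hmap : (Subalgebra.center k A).toSubmodule.map e.toLinearMap = S.K.dualAnnihilator := by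
    ext l
    constructor
    · rintro ⟨c, hc, rfl⟩
      rw [Submodule.mem_dualAnnihilator]
      intro w hw
      show S.τ (c * w) = 0
      refine Submodule.span_induction (p := fun x _ => S.τ (c * x) = 0) ?_ ?_ ?_ ?_ hw
      · rintro x ⟨a, b, rfl⟩
        rw [mul_sub, map_sub, ← mul_assoc, ← mul_assoc, S.symm (c * a) b, ← mul_assoc,
          (Subalgebra.mem_center_iff (R := k)).1 hc b, sub_self]
      · rw [mul_zero, map_zero]
      · intro x y _ _ h1 h2; rw [mul_add, map_add, h1, h2, add_zero]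
      · intro r x _ h; rw [mul_smul_comm, map_smul, h, smul_zero]
    · intro hl
      obtain ⟨c, rfl⟩ := e.surjective l
      refine ⟨c, (Subalgebra.mem_center_iff (R := k)).2 fun b => sub_eq_zero.1 (S.nondeg _ fun y => ?_), rfl⟩
      have h := (Submodule.mem_dualAnnihilator _).1 hl _ (S.comm_mem_K y b)
      change S.τ (c * (y * b - b * y)) = 0 at h
      rw [mul_sub, map_sub, sub_eq_zero] at h
      rw [sub_mul, map_sub, mul_assoc, S.symm, mul_assoc, h, mul_assoc, sub_self]
  have h2 := (e.submoduleMap (Subalgebra.center k A).toSubmodule).finrank_eq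
  have h3 := Subspace.finrank_add_finrank_dualAnnihilator_eq S.K
  rw [← hmap, ← h2, Subalgebra.finrank_toSubmodule] at h3
  exact h3.symm

end Data

end CfsgLib.LocalSym5
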